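import Cfsg.Agent.Lib.CharP.PMin.Small

/-!
The alternating group of degree six: the two maximal overgroups of a Sylow 2-subgroup.
-/

set_option autoImplicit false
set_option linter.unusedSectionVars false
set_option linter.style.haveILetI false
set_option maxRecDepth 100000
set_option synthInstance.maxHeartbeats 400000
set_option synthInstance.maxSize 1024

namespace CfsgLib.CharP.PMin.AltSix

open Subgroup Equiv

/-- The eight elements. -/
def el (i : Fin 8) : Perm (Fin 6) :=
  ([1, swap 0 1 * swap 1 2 * swap 2 3 * swap 4 5, swap 0 2 * swap 1 3,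
    swap 0 3 * swap 2 3 * swap 1 2 * swap 4 5, swap 0 2 * swap 4 5, swap 0 3 * swap 1 2,
    swap 1 3 * swap 4 5, swap 0 1 * swap 2 3] : List (Perm (Fin 6))).getD i.val 1

/-- Conjugation keeps a list of the elements. -/
def maps (S : List (Fin 8)) (g : Perm (Fin 6)) : Bool :=
  S.all fun i => S.any fun k => (List.finRange 6).all fun x => g (el i x) == el k (g x)

/-- The two four-groups. -/
def four : Fin 2 → List (Fin 8)
  | 0 => [0, 2, 5, 7]
  | 1 => [0, 2, 4, 6]

/-- The indices selected by an indicator. -/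
def sel (f : Fin 8 → Bool) : List (Fin 8) := (List.finRange 8).filter f

theorem chk_normal : ∀ f : Fin 8 → Bool, f 0 = true → (∃ i, i ≠ 0 ∧ f i = true) →
    (∀ i j k : Fin 8, f i = true → f j = true → el i * el j = el k → f k = true) →
    (∀ i j k : Fin 8, f i = true → el j * el i = el k * el j → f k = true) →
    sel f ∈ [[0, 2], [0, 1, 2, 3], [0, 2, 5, 7], [0, 2, 4, 6], [0, 1, 2, 3, 4, 5, 6, 7]] := by
  decide +kernel

theorem chk_cover : ∀ S ∈ ([[0, 2], [0, 1, 2, 3], [0, 2, 5, 7], [0, 2, 4, 6],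
      [0, 1, 2, 3, 4, 5, 6, 7]] : List (List (Fin 8))),
    (∀ g : Perm (Fin 6), maps S g = true → maps (four 0) g = true) ∨
      ∀ g : Perm (Fin 6), maps S g = true → maps (four 1) g = true := by
  decide +kernel

theorem chk_meet : ∀ g : Perm (Fin 6), maps (four 0) g = true → maps (four 1) g = true →
    maps (List.finRange 8) g = true := by
  decide +kernel

theorem chk_group : (∀ i, Perm.sign (el i) = 1) ∧ (∀ i j, el i = el j → i = j) ∧
    (∀ i j, ∃ k, el i * el j = el k) ∧ (∀ i, ∃ j, el i * el j = 1) ∧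
    ∀ n : Fin 2, ∀ u : Fin 8, maps (four n) (el u) = true := by
  decide +kernel

theorem chk_sep : Perm.sign (swap (0 : Fin 6) 1 * swap 1 2) = 1 ∧
    maps (four 0) (swap 0 1 * swap 1 2) = true ∧ maps (four 1) (swap 0 1 * swap 1 2) = false ∧
    Perm.sign (swap (0 : Fin 6) 1 * swap 1 4 * swap 2 3 * swap 3 5) = 1 ∧
    maps (four 1) (swap 0 1 * swap 1 4 * swap 2 3 * swap 3 5) = true ∧
    maps (four 0) (swap 0 1 * swap 1 4 * swap 2 3 * swap 3 5) = false := by
  decide +kernel

theorem maps_iff {S : List (Fin 8)} {g : Perm (Fin 6)} :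
    maps S g = true ↔ ∀ i ∈ S, ∃ k ∈ S, g * el i = el k * g := by
  simp [maps, Equiv.ext_iff]

theorem flat_alt_six : Flat 2 2 (alternatingGroup (Fin 6)) := by
  classical
  haveI : Fact (Nat.Prime 2) := ⟨Nat.prime_two⟩
  obtain ⟨hsign, hinj, hmul, hinv, hnorm⟩ := chk_group
  let u : Fin 8 → alternatingGroup (Fin 6) := fun i => ⟨el i, Perm.mem_alternatingGroup.2 (hsign i)⟩
  let A : Subgroup (alternatingGroup (Fin 6)) :=
    { carrier := Set.range u
      one_mem' := ⟨0, Subtype.ext rfl⟩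
      mul_mem' := by
        rintro _ _ ⟨i, rfl⟩ ⟨j, rfl⟩
        obtain ⟨k, hk⟩ := hmul i j
        exact ⟨k, Subtype.ext hk.symm⟩
      inv_mem' := by
        rintro _ ⟨i, rfl⟩
        obtain ⟨j, hj⟩ := hinv i
        exact ⟨j, (inv_eq_of_mul_eq_one_right (Subtype.ext hj : u i * u j = 1)).symm⟩ }
  have hA : Nat.card A = 8 := by
    rw [← Nat.card_eq_of_bijective (fun i : Fin 8 => (⟨u i, i, rfl⟩ : A))
      ⟨fun i j e => hinj i j (congrArg Subtype.val (congrArg Subtype.val e)),
        fun ⟨g, i, e⟩ => ⟨i, Subtype.ext e⟩⟩, Nat.card_fin]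
  have hG : Nat.card (alternatingGroup (Fin 6)) = 360 := by
    have := two_mul_nat_card_alternatingGroup (α := Fin 6)
    rw [Nat.card_perm, Nat.card_fin] at this
    have e : Nat.factorial 6 = 720 := rfl
    omega
  obtain ⟨U, hU⟩ := (IsPGroup.of_card (p := 2) (n := 3) (G := A) (by rw [hA]; norm_num)).exists_le_sylow
  have hUA : A = (U : Subgroup (alternatingGroup (Fin 6))) := eq_of_le_of_card_ge hU (by
    rw [hA, show Nat.card (U : Subgroup (alternatingGroup (Fin 6))) = 8 by
      simpa using CfsgLib.Small.card_sylow_eq (p := 2) 3 45 (by rw [hG]; norm_num) (by norm_num) U])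
  let V : List (Fin 8) → Set (alternatingGroup (Fin 6)) := fun S => {y | ∃ i ∈ S, y = u i}
  have hN : ∀ (S : List (Fin 8)) (g : alternatingGroup (Fin 6)),
      g ∈ normalizer (V S) ↔ maps S (g : Perm (Fin 6)) = true := by
    intro S g
    rw [maps_iff]
    constructor
    · intro hg i hi
      obtain ⟨k, hk, e⟩ := (mem_set_normalizer_iff.1 hg (u i)).1 ⟨i, hi, rfl⟩
      exact ⟨k, hk, congrArg Subtype.val (mul_inv_eq_iff_eq_mul.1 e)⟩
    · intro hg
      refine mem_normalizer_fintype fun y hy => ?_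
      obtain ⟨i, hi, rfl⟩ := hy
      obtain ⟨k, hk, e⟩ := hg i hi
      exact ⟨k, hk, mul_inv_eq_iff_eq_mul.2 (Subtype.ext e)⟩
  set F : Fin 2 → Subgroup (alternatingGroup (Fin 6)) := fun n => normalizer (V (four n))
  have hle : ∀ n, A ≤ F n := fun n g ⟨i, e⟩ => e ▸ (hN _ _).2 (hnorm n i)
  obtain ⟨s1, s2, s3, t1, t2, t3⟩ := chk_sep
  have hsep : ∀ n, ∃ g, g ∉ F n ∧ ∀ k, k ≠ n → g ∈ F k := by
    intro n
    match n with
    | 0 => exact ⟨⟨_, Perm.mem_alternatingGroup.2 t1⟩, fun h => by simp [(hN _ _).1 h] at t3,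
        fun k hk => by obtain rfl : k = 1 := by omega
                       exact (hN _ _).2 t2⟩
    | 1 => exact ⟨⟨_, Perm.mem_alternatingGroup.2 s1⟩, fun h => by simp [(hN _ _).1 h] at s3,
        fun k hk => by obtain rfl : k = 0 := by omega
                       exact (hN _ _).2 s2⟩
  refine Flat.of_one U ⟨F, ⟨fun n => hUA ▸ hle n, fun n e => ?_, fun M hUM hM => ?_, hsep⟩,
    fun g hg => ?_⟩
  · obtain ⟨g, hg, -⟩ := hsep n
    exact hg (e ▸ mem_top g)
  · obtain ⟨R, hR, hRU, hinvR⟩ := exists_core SmallCases.full_alt_six U hUM hM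
    set f : Fin 8 → Bool := fun i => decide (u i ∈ R)
    have hf : ∀ i, f i = true ↔ u i ∈ R := fun i => decide_eq_true_iff
    have hR' : ∀ y ∈ R, ∃ i, y = u i := fun y hy => by
      obtain ⟨i, rfl⟩ := (hUA.symm ▸ hRU hy : y ∈ A)
      exact ⟨i, rfl⟩
    have hmem := chk_normal f ((hf 0).2 (by rw [show u 0 = 1 from Subtype.ext rfl]; exact one_mem R))
      (by
        obtain ⟨y, hy, hy1⟩ := (bot_or_exists_ne_one R).resolve_left hR
        obtain ⟨i, rfl⟩ := hR' y hy
        exact ⟨i, fun e => hy1 (by rw [e]; exact Subtype.ext rfl), (hf i).2 hy⟩)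
      (fun i j k hi hj e => (hf k).2 (by
        rw [show u k = u i * u j from Subtype.ext e.symm]
        exact mul_mem ((hf i).1 hi) ((hf j).1 hj)))
      (fun i j k hi e => (hf k).2 (by
        rw [show u k = u j * u i * (u j)⁻¹ from eq_mul_inv_of_mul_eq (Subtype.ext e.symm)]
        exact hinvR _ (hUM (hUA ▸ ⟨j, rfl⟩)) _ ((hf i).1 hi)))
    have hM' : ∀ g ∈ M, maps (sel f) (g : Perm (Fin 6)) = true := by
      intro g hg
      rw [maps_iff]
      intro i hi
      rw [sel, List.mem_filter] at hi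
      have h1 := hinvR g hg _ ((hf i).1 hi.2)
      obtain ⟨k, hk⟩ := hR' _ h1
      exact ⟨k, List.mem_filter.2 ⟨List.mem_finRange k, (hf k).2 (hk ▸ h1)⟩,
        congrArg Subtype.val (mul_inv_eq_iff_eq_mul.1 hk)⟩
    rcases chk_cover _ hmem with h | h
    · exact ⟨0, fun g hg => (hN _ _).2 (h _ (hM' g hg))⟩
    · exact ⟨1, fun g hg => (hN _ _).2 (h _ (hM' g hg))⟩
  · have h := chk_meet g.1 ((hN _ _).1 (mem_iInf.1 hg 0)) ((hN _ _).1 (mem_iInf.1 hg 1))
    have hV : V (List.finRange 8) = ((U : Subgroup (alternatingGroup (Fin 6))) : Set _) := by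
      rw [← hUA]
      ext y
      exact ⟨fun ⟨i, _, e⟩ => ⟨i, e.symm⟩, fun ⟨i, e⟩ => ⟨i, List.mem_finRange i, e.symm⟩⟩
    rw [← hV]
    exact (hN _ _).2 h

end CfsgLib.CharP.PMin.AltSix
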