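import Cfsg.Agent.Lib.CharP.PMin.Basic
import Cfsg.Agent.Lib.CharP.Overgroup.BN
import Cfsg.Agent.Lib.Chev.BNSimple

/-!
The maximal overgroups of the unipotent subgroup in a split (B,N)-pair.
-/

set_option autoImplicit false
set_option linter.unusedSectionVars false
set_option linter.style.haveILetI false

namespace CfsgLib.CharP.PMin

open Subgroup CfsgLib.Chev

variable {G : Type*} [Group G] {P : Cfsg.BNPair G}

variable (P) in
/-- The maximal standard parabolic subgroups. -/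
def bmem (s : P.S) : Subgroup G := P.parabolic (P.S \ {(s : G)})

/-- The data of a split pair. -/
structure SplitU (P : Cfsg.BNPair G) (p : ℕ) (U : Subgroup G) : Prop where
  isP : IsPGroup p U
  ne_bot : U ≠ ⊥
  le_B : U ≤ P.B
  norm : P.B ≤ normalizer (U : Set G)
  decomp : ∀ b ∈ P.B, ∃ u ∈ U, ∃ t ∈ P.B ⊓ P.N, b = u * t
  torus : ∀ t ∈ P.B ⊓ P.N, (∃ k, t ^ p ^ k = 1) → t = 1

theorem not_mem_bmem (s : P.S) : (s : G) ∉ bmem P s := fun h =>
  (BN.mem_J_of_mem_parabolic Set.sdiff_subset s.2 h).2 rfl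

theorem mem_bmem {s r : P.S} (h : r ≠ s) : (r : G) ∈ bmem P s :=
  (le_sup_right : Subgroup.closure _ ≤ bmem P s) (Subgroup.subset_closure ⟨r.2, fun e => h (Subtype.ext e)⟩)

theorem B_le_bmem (s : P.S) : P.B ≤ bmem P s := le_sup_left

/-- The generators of the subgroup of all members but some. -/
theorem iInf_bmem (A : Set P.S) :
    ⨅ s : A, bmem P s.1 = P.parabolic {x | ∃ h : x ∈ P.S, (⟨x, h⟩ : P.S) ∉ A} := by
  have hB : P.B ≤ ⨅ s : A, bmem P s.1 := le_iInf fun s => B_le_bmem s.1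
  rw [BN.eq_parabolic_of_le hB]
  congr 1
  ext x
  constructor
  · rintro ⟨hx, hx'⟩
    exact ⟨hx, fun hA => not_mem_bmem ⟨x, hx⟩ (mem_iInf.1 hx' ⟨_, hA⟩)⟩
  · rintro ⟨hx, hA⟩
    exact ⟨hx, mem_iInf.2 fun s => mem_bmem (r := ⟨x, hx⟩) fun e => hA (e ▸ s.2)⟩

theorem iInf_bmem_eq : ⨅ s : P.S, bmem P s = P.B := by
  refine le_antisymm ?_ (le_iInf B_le_bmem)
  intro g hg
  have h : g ∈ ⨅ s : (Set.univ : Set P.S), bmem P s.1 := mem_iInf.2 fun s => mem_iInf.1 hg s.1
  rw [iInf_bmem] at h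
  have e : {x : G | ∃ h : x ∈ P.S, (⟨x, h⟩ : P.S) ∉ (Set.univ : Set P.S)} = ∅ := by simp
  rw [e, Cfsg.BNPair.parabolic, Subgroup.closure_empty, sup_bot_eq] at h
  exact h

variable {p : ℕ} [hp : Fact p.Prime] [Finite G] [IsSimpleGroup G] {U : Subgroup G}

/-- A proper overgroup of `U` lies in a proper parabolic subgroup. -/
theorem exists_letters (h : SplitU P p U) {M : Subgroup G} (hUM : U ≤ M) (hM : M ≠ ⊤) :
    {s | s ∈ P.S ∧ ∃ t ∈ P.B ⊓ P.N, s * t ∈ M} ≠ P.S ∧
      M ≤ P.parabolic {s | s ∈ P.S ∧ ∃ t ∈ P.B ⊓ P.N, s * t ∈ M} := by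
  have hTU : P.B ⊓ P.N ≤ normalizer (U : Set G) := inf_le_left.trans h.norm
  set J := {s | s ∈ P.S ∧ ∃ t ∈ P.B ⊓ P.N, s * t ∈ M} with hJ
  refine ⟨fun hJ' => hM ?_, fun m hm => ?_⟩
  · have hNM : ∀ n ∈ P.N, ∃ t ∈ P.B ⊓ P.N, n * t ∈ M := by
      intro n hn
      rw [← P.closure_sup, ← Subgroup.closure_eq (P.B ⊓ P.N), ← Subgroup.closure_union] at hn
      have hle : Subgroup.closure (P.S ∪ ((P.B ⊓ P.N : Subgroup G) : Set G)) ≤ P.N :=
        (Subgroup.closure_le _).2 (Set.union_subset P.subset fun t ht => ht.2)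
      induction hn using closure_induction with
      | mem x hx =>
        rcases hx with hx | hx
        · exact (hJ'.ge hx).2
        · exact ⟨x⁻¹, inv_mem hx, by rw [mul_inv_cancel]; exact one_mem M⟩
      | one => exact ⟨1, one_mem _, by rw [mul_one]; exact one_mem M⟩
      | mul x y _ hy ihx ihy =>
        obtain ⟨t, ht, hxt⟩ := ihx
        obtain ⟨s, hs, hys⟩ := ihy
        refine ⟨(y⁻¹ * t * y) * s, mul_mem (BN.conj_mem_T' (hle hy) ht) hs, ?_⟩
        have := mul_mem hxt hys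
        convert this using 1
        group
      | inv x hx ih =>
        obtain ⟨t, ht, hxt⟩ := ih
        refine ⟨x * t⁻¹ * x⁻¹, BN.conj_mem_T (hle hx) (inv_mem ht), ?_⟩
        convert inv_mem hxt using 1
        group
    obtain ⟨t, ht, ht1⟩ := (bot_or_exists_ne_one U).resolve_left h.ne_bot
    refine eq_top_of_conj_mem ht1 fun y => ?_
    obtain ⟨n, hn, hc⟩ := BN.bruhat (P := P) y
    obtain ⟨c, hc1, c', hc2, rfl⟩ := BN.mem_cell.1 hc
    obtain ⟨u, hu, k₀, hk₀, rfl⟩ := h.decomp c hc1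
    obtain ⟨k, hk, hnk⟩ := hNM (k₀ * n) (mul_mem hk₀.2 hn)
    have hw : k⁻¹ * (c' * t * c'⁻¹) * k ∈ U := by
      have := (mem_normalizer_iff.1 (hTU (inv_mem hk)) _).1 ((mem_normalizer_iff.1 (h.norm hc2) t).1 ht)
      simpa using this
    have := mul_mem (mul_mem (mul_mem (hUM hu) hnk) (hUM hw)) (inv_mem (mul_mem (hUM hu) hnk))
    convert this using 1
    group
  obtain ⟨n, hn, hc⟩ := BN.bruhat (P := P) m
  obtain ⟨c, hc1, c', hc2, rfl⟩ := BN.mem_cell.1 hc
  obtain ⟨u, hu, k, hk, rfl⟩ := h.decomp c hc1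
  obtain ⟨u', hu', k', hk', rfl⟩ := h.decomp c' hc2
  set u₂ := k'⁻¹ * u' * k' with hu₂
  have hu₂U : u₂ ∈ U := by
    have := (mem_normalizer_iff.1 (hTU (inv_mem hk')) u').1 hu'
    simpa [hu₂] using this
  have hn' : k * n * k' ∈ M := by
    have := mul_mem (mul_mem (inv_mem (hUM hu)) hm) (inv_mem (hUM hu₂U))
    convert this using 1
    rw [hu₂]; group
  have hn'N : k * n * k' ∈ P.N := mul_mem (mul_mem hk.2 hn) hk'.2
  obtain ⟨l, hl, e⟩ := BN.exists_reduced hn'N
  have hlet := letters_mem_mod hUM h.decomp hTU hl hn'N e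
    fun w hw => mul_mem (mul_mem hn' (hUM hw)) (inv_mem hn')
  have hB : P.B ≤ P.parabolic J := le_sup_left
  have hlp : l.prod ∈ P.parabolic J := list_prod_mem fun x hx =>
    (le_sup_right : Subgroup.closure J ≤ P.parabolic J) (Subgroup.subset_closure ⟨hl.1 x hx, hlet x hx⟩)
  have hnP : k * n * k' ∈ P.parabolic J := by
    have := mul_mem hlp (hB e)
    simpa using this
  have := mul_mem (mul_mem (hB (h.le_B hu)) hnP) (hB (h.le_B hu₂U))
  convert this using 1
  rw [hu₂]; group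

theorem cover_bmem (h : SplitU P p U) : Cover U (bmem P) where
  le s := h.le_B.trans (B_le_bmem s)
  ne_top s e := not_mem_bmem s (e ▸ mem_top _)
  cover M hUM hM := by
    obtain ⟨hne, hle⟩ := exists_letters h hUM hM
    obtain ⟨s, hs, hsJ⟩ := Set.exists_of_ssubset
      (HasSubset.Subset.ssubset_of_ne (fun x hx => hx.1 : _ ⊆ P.S) hne)
    exact ⟨⟨s, hs⟩, hle.trans (BN.parabolic_mono fun x hx => ⟨hx.1, fun e => hsJ (by rw [Set.mem_singleton_iff] at e; subst e; exact hx)⟩)⟩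
  sep s := ⟨s, not_mem_bmem s, fun _ hk => mem_bmem hk.symm⟩

/-- `U` is a Sylow subgroup. -/
theorem exists_sylow_bn (h : SplitU P p U) (hS : P.S.Nonempty) :
    ∃ V : Sylow p G, (V : Subgroup G) = U := by
  have hNB : normalizer (U : Set G) ≤ P.B := by
    have hU : U ≠ ⊤ := fun e => not_mem_bmem ⟨_, hS.some_mem⟩
      (h.le_B.trans (B_le_bmem _) (e ▸ mem_top _))
    have hN : normalizer (U : Set G) ≠ ⊤ := fun e => by
      haveI := normalizer_eq_top_iff.1 e
      exact ((inferInstance : U.Normal).eq_bot_or_eq_top).elim h.ne_bot hU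
    obtain ⟨-, hle⟩ := exists_letters h le_normalizer hN
    refine hle.trans (sup_le le_rfl ((Subgroup.closure_le _).2 ?_))
    rintro s ⟨hs, t, ht, hst⟩
    exfalso
    have hsU : s ∈ normalizer (U : Set G) := by
      have := mul_mem hst (inv_mem (inf_le_left.trans h.norm ht))
      rwa [mul_inv_cancel_right] at this
    refine P.conj_ne s hs ?_
    have key : ∀ b ∈ P.B, s * b * s ∈ P.B := by
      intro b hb
      obtain ⟨u, hu, t', ht', rfl⟩ := h.decomp b hb
      have h1 := mul_mem (mul_mem (h.le_B ((mem_normalizer_iff.1 hsU u).1 hu))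
        (BN.conj_mem_T (P.subset hs) ht').1) (P.sq_mem s hs)
      convert h1 using 1
      group
    ext x
    refine ⟨fun ⟨b, hb, e⟩ => e ▸ key b hb, fun hx => ⟨s⁻¹ * x * s⁻¹, SetLike.mem_coe.2 ?_, by group⟩⟩
    have h1 := mul_mem (mul_mem (inv_mem (P.sq_mem s hs)) (key x hx)) (inv_mem (P.sq_mem s hs))
    convert h1 using 1
    group
  obtain ⟨V, hV⟩ := h.isP.exists_le_sylow
  refine ⟨V, le_antisymm ?_ hV⟩
  by_contra hne
  haveI : Group.IsNilpotent (V : Subgroup G) := V.isPGroup'.isNilpotent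
  have hlt : U.subgroupOf (V : Subgroup G) < ⊤ := lt_top_iff_ne_top.2 fun e =>
    hne (Subgroup.subgroupOf_eq_top.1 e)
  obtain ⟨⟨n, hnV⟩, hn, hnU⟩ := SetLike.exists_of_lt
    (Group.normalizerCondition_of_isNilpotent (G := (V : Subgroup G)) _ hlt)
  refine hnU (mem_subgroupOf.2 ?_)
  have hnN : n ∈ normalizer (U : Set G) := by
    refine mem_normalizer_iff.2 fun x => ⟨fun hx => ?_, fun hx => ?_⟩
    · have := (mem_normalizer_iff.1 hn ⟨x, hV hx⟩).1 (mem_subgroupOf.2 hx)
      simpa [mem_subgroupOf] using this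
    · have := (mem_normalizer_iff.1 (inv_mem hn) ⟨n * x * n⁻¹, hV hx⟩).1 (mem_subgroupOf.2 hx)
      simpa [mem_subgroupOf, mul_assoc] using this
  obtain ⟨u, hu, t, ht, e⟩ := h.decomp n (hNB hnN)
  obtain ⟨k, hk⟩ := V.isPGroup' (⟨u, hV hu⟩⁻¹ * ⟨n, hnV⟩)
  have : t = 1 := h.torus t ht ⟨k, by
    have := congrArg Subtype.val hk
    simpa [e] using this⟩
  show n ∈ U
  rwa [e, this, mul_one]

variable {n : ℕ} (e : Fin n ≃ P.S)

theorem cover_bmem_fin (h : SplitU P p U) : Cover U (fun i => bmem P (e i)) where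
  le i := (cover_bmem h).le _
  ne_top i := (cover_bmem h).ne_top _
  cover M hUM hM := by
    obtain ⟨s, hs⟩ := (cover_bmem h).cover M hUM hM
    exact ⟨e.symm s, by simpa using hs⟩
  sep i := by
    obtain ⟨g, hg, hg'⟩ := (cover_bmem h).sep (e i)
    exact ⟨g, hg, fun k hk => hg' _ fun e' => hk (e.injective e')⟩

theorem flat_bn (h : SplitU P p U) (e : Fin n ≃ P.S) (hn : 0 < n) : Flat p n G := by
  obtain ⟨V, hV⟩ := exists_sylow_bn h ⟨_, (e ⟨0, hn⟩).2⟩
  refine Flat.of_one V ⟨fun i => bmem P (e i), hV ▸ cover_bmem_fin e h, ?_⟩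
  rw [hV]
  refine le_trans ?_ h.norm
  intro g hg
  rw [← iInf_bmem_eq (P := P)]
  exact mem_iInf.2 fun s => by
    have := mem_iInf.1 hg (e.symm s)
    rwa [e.apply_symm_apply] at this

theorem excl_bn_two (h : SplitU P p U) (e : Fin 2 ≃ P.S) (hp2 : p ≠ 2) : Excl p G := by
  obtain ⟨V, hV⟩ := exists_sylow_bn h ⟨_, (e 0).2⟩
  exact Excl.of_one V (hV ▸ (cover_bmem_fin e h).excl_two hp2)

/-- Commuting of two generators modulo the torus. -/
def GenComm (s r : G) : Prop := BN.Eqv P (s * r) (r * s)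

/-- Minimal parabolic subgroups commute exactly with their generators. -/
theorem genComm_iff {s r : G} (hs : s ∈ P.S) (hr : r ∈ P.S) (hne : s ≠ r) :
    GenComm (P := P) s r ↔
      ∀ x ∈ P.parabolic {s}, ∀ y ∈ P.parabolic {r},
        ∃ y' ∈ P.parabolic {r}, ∃ x' ∈ P.parabolic {s}, y * x = x' * y' := by
  have mem1 : ∀ {z : G} {a : G}, a ∈ P.S → z ∈ P.parabolic {a} →
      z ∈ P.B ∨ z ∈ BN.cell P a := by
    intro z a ha hz
    rw [← SetLike.mem_coe, BN.parabolic_singleton ha] at hz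
    exact hz
  have hB : ∀ (a : G), P.B ≤ P.parabolic {a} := fun a => le_sup_left
  have hself : ∀ (a : G), a ∈ P.parabolic {a} := fun a =>
    (le_sup_right : Subgroup.closure {a} ≤ P.parabolic {a}) (Subgroup.subset_closure rfl)
  have hcell : ∀ {z : G} {a : G}, z ∈ BN.cell P a → z ∈ P.parabolic {a} := by
    intro z a hz
    obtain ⟨b, hb, b', hb', rfl⟩ := BN.mem_cell.1 hz
    exact mul_mem (mul_mem (hB a hb) (hself a)) (hB a hb')
  constructor
  · intro hc x hx y hy
    rcases mem1 hr hy with hy | hy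
    · exact ⟨1, one_mem _, y * x, mul_mem (hB s hy) hx, by rw [mul_one]⟩
    rcases mem1 hs hx with hx | hx
    · exact ⟨y * x, mul_mem (hcell hy) (hB r hx), 1, one_mem _, by rw [one_mul]⟩
    obtain ⟨b, hb, b', hb', rfl⟩ := BN.mem_cell.1 hy
    obtain ⟨c, hc', c', hc'', rfl⟩ := BN.mem_cell.1 hx
    rcases BN.left_rule hr (P.subset hs) (mul_mem hb' hc') with hh | hh
    · rw [← BN.cell_eq_of_eqv hc] at hh
      obtain ⟨d, hd, d', hd', e⟩ := BN.mem_cell.1 hh
      refine ⟨r * (d' * c'), mul_mem (hself r) (hB r (mul_mem hd' hc'')), b * d * s,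
        mul_mem (hB s (mul_mem hb hd)) (hself s), ?_⟩
      calc b * r * b' * (c * s * c') = b * (r * (b' * c) * s) * c' := by group
        _ = _ := by rw [e]; group
    · obtain ⟨d, hd, d', hd', e⟩ := BN.mem_cell.1 hh
      refine ⟨1, one_mem _, b * d * s * (d' * c'), mul_mem (mul_mem (hB s (mul_mem hb hd)) (hself s))
        (hB s (mul_mem hd' hc'')), ?_⟩
      calc b * r * b' * (c * s * c') = b * (r * (b' * c) * s) * c' := by group
        _ = _ := by rw [e]; group
  · intro hall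
    obtain ⟨y', hy', x', hx', e⟩ := hall s (hself s) r (hself r)
    have hrs : r * s ∈ BN.cell P (r * s) := BN.self_mem_cell _
    have hrsN : r * s ∈ P.N := mul_mem (P.subset hr) (P.subset hs)
    have no : ∀ w ∈ P.N, r * s ∈ BN.cell P w → BN.Eqv P (r * s) w := fun w hw hmem =>
      BN.eqv_of_mem_cells hrsN hw hrs hmem
    have h1 : r * s ∉ P.parabolic {s} := fun hmem => hne (Set.mem_singleton_iff.1
      (BN.mem_J_of_mem_parabolic (Set.singleton_subset_iff.2 hs) hr (by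
        have := mul_mem hmem (inv_mem (hself s))
        rwa [mul_inv_cancel_right] at this))).symm
    have h2 : r * s ∉ P.parabolic {r} := fun hmem => hne (Set.mem_singleton_iff.1
      (BN.mem_J_of_mem_parabolic (Set.singleton_subset_iff.2 hr) hs (by
        have := mul_mem (inv_mem (hself r)) hmem
        rwa [inv_mul_cancel_left] at this)))
    rcases mem1 hs hx' with hx' | hx'
    · exact absurd (e ▸ mul_mem (hB r hx') hy') h2
    rcases mem1 hr hy' with hy' | hy'
    · exact absurd (e ▸ mul_mem (hcell hx') (hB s hy')) h1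
    obtain ⟨b, hb, b', hb', rfl⟩ := BN.mem_cell.1 hx'
    obtain ⟨c, hc, c', hc', rfl⟩ := BN.mem_cell.1 hy'
    rcases BN.left_rule hs (P.subset hr) (mul_mem hb' hc) with hh | hh
    · refine BN.eqv_symm (no _ (mul_mem (P.subset hs) (P.subset hr)) ?_)
      rw [e, show b * s * b' * (c * r * c') = b * (s * (b' * c) * r) * c' by group]
      exact BN.mul_mem_cell_right hc' (BN.mul_mem_cell_left hb hh)
    · refine absurd ?_ h2
      rw [e, show b * s * b' * (c * r * c') = b * (s * (b' * c) * r) * c' by group]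
      exact hcell (BN.mul_mem_cell_right hc' (BN.mul_mem_cell_left hb hh))

/-- Generators of different valency give the exclusion. -/
theorem excl_bn_deg (h : SplitU P p U) (e : Fin n ≃ P.S) (c : Fin n → Fin n → Bool)
    (hc : ∀ i k, c i k = true ↔ GenComm (P := P) (e i : G) (e k))
    (hdeg : ∃ i k, (Finset.univ.filter fun l => c i l = false).card ≠
      (Finset.univ.filter fun l => c k l = false).card) : Excl p G := by
  obtain ⟨i₀, k₀, hik⟩ := hdeg
  obtain ⟨V, hV⟩ := exists_sylow_bn h ⟨_, (e i₀).2⟩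
  refine Excl.of_one V ?_
  rw [hV]
  have hcov := cover_bmem_fin e h
  set deg := fun i => (Finset.univ.filter fun l => c i l = false).card
  set M : Fin n → Subgroup G := fun i => P.parabolic {(e i : G)} with hMdef
  have hM : ∀ i, M i = ⨅ k : {k // k ≠ i}, bmem P (e k) := by
    intro i
    have h1 := iInf_bmem (P := P) {s | s ≠ e i}
    have e1 : {x : G | ∃ h : x ∈ P.S, (⟨x, h⟩ : P.S) ∉ {s : P.S | s ≠ e i}} = {(e i : G)} := by
      ext x
      simp only [Set.mem_setOf_eq, not_not, Set.mem_singleton_iff]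
      exact ⟨fun ⟨h, hh⟩ => congrArg Subtype.val hh, fun hh => ⟨hh ▸ (e i).2, Subtype.ext hh⟩⟩
    rw [hMdef]
    simp only
    rw [← e1, ← h1]
    refine le_antisymm (le_iInf fun k => iInf_le (fun s : {s : P.S | s ≠ e i} => bmem P s.1)
      ⟨e k, fun hh => k.2 (e.injective hh)⟩) (le_iInf fun s => ?_)
    refine le_trans (iInf_le (fun k : {k // k ≠ i} => bmem P (e k))
      ⟨e.symm s.1, fun hh => s.2 ((e.apply_symm_apply _).symm.trans (congrArg e hh))⟩) ?_
    simp
  refine hcov.excl fun T hT hTU => ⟨{i | deg i = deg i₀}, ⟨i₀, rfl⟩,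
    fun hh => hik ((hh.ge (Set.mem_univ k₀) : deg k₀ = deg i₀)).symm, fun a ha i hi k hk => ?_⟩
  choose π hπ using fun j => hcov.perm (fun x hx => hTU a ha x hx) j
  have hπk : π i = k := hcov.eq_of_le ((hk.symm.trans (hπ i)).le) |>.symm |> Eq.symm
  have hinj : Function.Injective π := fun j l hjl => hcov.eq_of_le
    (map_injective (f := a.toMonoidHom) a.injective ((hπ j).trans (hjl ▸ (hπ l).symm))).le |>.symm
  have hbij : Function.Bijective π := Finite.injective_iff_bijective.1 hinj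
  have hMmap : ∀ j, (M j).map a.toMonoidHom = M (π j) := by
    intro j
    rw [hM, hM]
    refine SetLike.ext fun y => ?_
    rw [mem_iInf]
    constructor
    · rintro ⟨x, hx, rfl⟩ ⟨l, hl⟩
      obtain ⟨l', rfl⟩ := hbij.2 l
      rw [← hπ l']
      exact ⟨x, mem_iInf.1 hx ⟨l', fun hh => hl (congrArg π hh)⟩, rfl⟩
    · intro hy
      refine ⟨(a⁻¹ : MulAut G) y, mem_iInf.2 fun ⟨l, hl⟩ => ?_, by simp⟩
      have := hy ⟨π l, fun hh => hl (hinj hh)⟩
      rw [← hπ l] at this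
      obtain ⟨x, hx, rfl⟩ := this
      simpa using hx
  have hpres : ∀ j l, c (π j) (π l) = c j l := by
    have key : ∀ j l, j ≠ l → (c j l = true ↔ c (π j) (π l) = true) := by
      intro j l hjl
      have hne : ∀ {j l : Fin n}, j ≠ l → (e j : G) ≠ e l := fun h hh =>
        h (e.injective (Subtype.ext hh))
      rw [hc, hc, genComm_iff (e j).2 (e l).2 (hne hjl),
        genComm_iff (e _).2 (e _).2 (hne fun hh => hjl (hinj hh))]
      show (∀ x ∈ M j, ∀ y ∈ M l, ∃ y' ∈ M l, ∃ x' ∈ M j, y * x = x' * y') ↔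
        ∀ x ∈ M (π j), ∀ y ∈ M (π l), ∃ y' ∈ M (π l), ∃ x' ∈ M (π j), y * x = x' * y'
      rw [← hMmap j, ← hMmap l]
      constructor
      · rintro hh _ ⟨x, hx, rfl⟩ _ ⟨y, hy, rfl⟩
        obtain ⟨y', hy', x', hx', e'⟩ := hh x hx y hy
        exact ⟨_, ⟨y', hy', rfl⟩, _, ⟨x', hx', rfl⟩, by rw [← map_mul, e', map_mul]⟩
      · intro hh x hx y hy
        obtain ⟨_, ⟨y', hy', rfl⟩, _, ⟨x', hx', rfl⟩, e'⟩ := hh _ ⟨x, hx, rfl⟩ _ ⟨y, hy, rfl⟩
        exact ⟨y', hy', x', hx', a.injective (by simpa using e')⟩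
    intro j l
    rcases eq_or_ne j l with rfl | hjl
    · rw [(hc j j).2 (BN.eqv_refl _), (hc (π j) (π j)).2 (BN.eqv_refl _)]
    · exact (Bool.eq_iff_iff.2 (key j l hjl)).symm
  show deg k = deg i₀
  rw [← hπk]
  refine Eq.trans ?_ hi
  refine (Finset.card_bij (fun l _ => π l) (fun l hl => ?_) (fun a _ b _ h => hinj h) fun l hl => ?_).symm
  · simp only [Finset.mem_filter, Finset.mem_univ, true_and] at hl ⊢
    rw [hpres]; exact hl
  · obtain ⟨l', rfl⟩ := hbij.2 l
    simp only [Finset.mem_filter, Finset.mem_univ, true_and] at hl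
    rw [hpres] at hl
    exact ⟨l', by simpa using hl, rfl⟩

end CfsgLib.CharP.PMin

namespace CfsgLib.CharP.PMin

open Subgroup CfsgLib.Chev

variable {G : Type*} [Group G] {P : Cfsg.BNPair G} {p : ℕ} [hp : Fact p.Prime] [Finite G]
  [IsSimpleGroup G] {U : Subgroup G}

/-- Members of different order give the exclusion. -/
theorem excl_bn_card (h : SplitU P p U) (e : Fin 2 ≃ P.S)
    (hne : Nat.card (P.parabolic {(e 0 : G)}) ≠ Nat.card (P.parabolic {(e 1 : G)})) : Excl p G := by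
  obtain ⟨V, hV⟩ := exists_sylow_bn h ⟨_, (e 0).2⟩
  refine Excl.of_one V (hV ▸ (cover_bmem_fin e h).excl_card (i := 0) (k := 1) ?_)
  have hS : ∀ i j : Fin 2, i ≠ j → bmem P (e i) = P.parabolic {(e j : G)} := by
    intro i j hij
    refine congrArg P.parabolic (Set.ext fun x => ⟨fun hx => ?_, fun hx => ?_⟩)
    · obtain ⟨k, hk⟩ := e.surjective ⟨x, hx.1⟩
      have hki : k ≠ i := fun hh => hx.2 (by rw [Set.mem_singleton_iff, ← hh, hk])
      rw [Set.mem_singleton_iff, show j = k by omega, hk]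
    · rw [Set.mem_singleton_iff] at hx
      subst hx
      exact ⟨(e j).2, fun hh => hij (e.injective (Subtype.ext (Set.mem_singleton_iff.1 hh).symm))⟩
  rw [hS 0 1 (by decide), hS 1 0 (by decide)]
  exact hne.symm

omit [IsSimpleGroup G] in
/-- A cell with unique normal form has the expected size. -/
theorem card_parabolic_singleton {s : G} (hs : s ∈ P.S) {V : Subgroup G} (hVB : V ≤ P.B)
    (huniq : ∀ b ∈ P.B, ∀ b' ∈ P.B, ∀ v ∈ V, ∀ v' ∈ V, b * s * v = b' * s * v' → b = b' ∧ v = v')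
    (hsurj : ∀ x ∈ BN.cell P s, ∃ b ∈ P.B, ∃ v ∈ V, x = b * s * v) :
    Nat.card (P.parabolic {s}) = Nat.card P.B + Nat.card P.B * Nat.card V := by
  classical
  have hne : ∀ x ∈ P.B, x ∉ BN.cell P s := fun x hx hc => by
    obtain ⟨b, hb, b', hb', rfl⟩ := BN.mem_cell.1 hc
    refine BN.not_mem_B hs ?_
    have := mul_mem (mul_mem (inv_mem hb) hx) (inv_mem hb')
    simpa [mul_assoc] using this
  let F : P.B × V → ↥(BN.cell P s) := fun z => ⟨z.1 * s * z.2,
    BN.mem_cell.2 ⟨z.1, z.1.2, z.2, hVB z.2.2, rfl⟩⟩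
  have hF : Function.Bijective F := by
    refine ⟨fun a c hac => ?_, fun ⟨x, hx⟩ => ?_⟩
    · obtain ⟨h1, h2⟩ := huniq _ a.1.2 _ c.1.2 _ a.2.2 _ c.2.2 (congrArg Subtype.val hac)
      exact Prod.ext (Subtype.ext h1) (Subtype.ext h2)
    · obtain ⟨b, hb, v, hv, rfl⟩ := hsurj x hx
      exact ⟨(⟨b, hb⟩, ⟨v, hv⟩), rfl⟩
  rw [show Nat.card (P.parabolic {s}) = Nat.card ↥((P.B : Set G) ∪ BN.cell P s) from
    Nat.card_congr (Equiv.setCongr (BN.parabolic_singleton hs)),
    Nat.card_congr (Equiv.Set.union (Set.disjoint_left.2 hne)), Nat.card_sum,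
    ← Nat.card_congr (Equiv.ofBijective F hF), Nat.card_prod]
  rfl

end CfsgLib.CharP.PMin
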