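import Cfsg.Agent.Lib.CharP.Overgroup.Basic
import Cfsg.Prelude.Def_LocalEven

/-!
`p`-minimal groups over a simple normal subgroup `K`: the maximal overgroups of a Sylow
`p`-subgroup `U` of `K` are permuted by the Sylow `p`-subgroup of the whole group.
-/

set_option autoImplicit false
set_option linter.unusedSectionVars false
set_option linter.style.haveILetI false

namespace CfsgLib.CharP.PMin

open Subgroup CfsgLib.Base

variable {p : ℕ} [hp : Fact p.Prime]

/-- A covering family of maximal overgroups, each separated from the meet of the others. -/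
structure Cover {K : Type*} [Group K] (U : Subgroup K) {ι : Type*} (F : ι → Subgroup K) : Prop where
  le : ∀ i, U ≤ F i
  ne_top : ∀ i, F i ≠ ⊤
  cover : ∀ H : Subgroup K, U ≤ H → H ≠ ⊤ → ∃ i, H ≤ F i
  sep : ∀ i, ∃ g, g ∉ F i ∧ ∀ k, k ≠ i → g ∈ F k

/-- Two invariant proper overgroups of `U` generating the group. -/
def ExclAt (p : ℕ) {K : Type*} [Group K] (U : Subgroup K) : Prop :=
  ∀ T : Subgroup (MulAut K), IsPGroup p T → (∀ a ∈ T, ∀ x ∈ U, a x ∈ U) →
    ∃ H₁ H₂ : Subgroup K, U ≤ H₁ ∧ U ≤ H₂ ∧ H₁ ≠ ⊤ ∧ H₂ ≠ ⊤ ∧ H₁ ⊔ H₂ = ⊤ ∧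
      ∀ a ∈ T, (∀ x ∈ H₁, a x ∈ H₁) ∧ ∀ x ∈ H₂, a x ∈ H₂

/-- A covering family of size `n` whose meet normalises `U`. -/
def FlatAt (n : ℕ) {K : Type*} [Group K] (U : Subgroup K) : Prop :=
  ∃ F : Fin n → Subgroup K, Cover U F ∧ ⨅ i, F i ≤ normalizer (U : Set K)

/-- The exclusion property. -/
def Excl (p : ℕ) (K : Type*) [Group K] : Prop := ∀ U : Sylow p K, ExclAt p (U : Subgroup K)

/-- The Borel property in rank `n`. -/
def Flat (p n : ℕ) (K : Type*) [Group K] : Prop := ∀ U : Sylow p K, FlatAt n (U : Subgroup K)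

section transport

variable {K K' : Type*} [Group K] [Group K'] (e : K ≃* K')

theorem Cover.map {U : Subgroup K} {ι : Type*} {F : ι → Subgroup K} (h : Cover U F) :
    Cover (U.map e.toMonoidHom) (fun i => (F i).map e.toMonoidHom) where
  le i := map_mono (h.le i)
  ne_top i hi := h.ne_top i (by
    apply map_injective (f := e.toMonoidHom) e.injective
    rw [hi, Subgroup.map_top_of_surjective _ e.surjective])
  cover H hH hH' := by
    obtain ⟨i, hi⟩ := h.cover (H.comap e.toMonoidHom) (map_le_iff_le_comap.1 hH) fun e' => hH' (by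
      rw [← map_comap_eq_self_of_surjective (f := e.toMonoidHom) e.surjective H, e',
        Subgroup.map_top_of_surjective _ e.surjective])
    refine ⟨i, ?_⟩
    rw [← map_comap_eq_self_of_surjective (f := e.toMonoidHom) e.surjective H]
    exact map_mono hi
  sep i := by
    obtain ⟨g, hg, hg'⟩ := h.sep i
    refine ⟨e g, fun hc => hg ?_, fun k hk => ⟨g, hg' k hk, rfl⟩⟩
    obtain ⟨y, hy, he⟩ := hc
    exact e.injective he ▸ hy

theorem FlatAt.map {n : ℕ} {U : Subgroup K} (h : FlatAt n U) :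
    FlatAt n (U.map e.toMonoidHom) := by
  obtain ⟨F, hF, hN⟩ := h
  refine ⟨_, hF.map e, fun y hy => ?_⟩
  obtain ⟨x, rfl⟩ := e.surjective y
  have hx : x ∈ normalizer (U : Set K) := hN (mem_iInf.2 fun i => by
    obtain ⟨z, hz, he⟩ := mem_iInf.1 hy i
    exact e.injective he ▸ hz)
  exact le_normalizer_map e.toMonoidHom ⟨x, hx, rfl⟩

theorem ExclAt.map {U : Subgroup K} (h : ExclAt p U) : ExclAt p (U.map e.toMonoidHom) := by
  intro T hT hTU
  let c : MulAut K' →* MulAut K := (MulAut.congr e.symm).toMonoidHom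
  have hc : ∀ a x, c a x = e.symm (a (e x)) := fun a x => rfl
  obtain ⟨H₁, H₂, h1, h2, h1', h2', h12, hinv⟩ := h (T.map c) (hT.map c) (by
    rintro _ ⟨a, ha, rfl⟩ x hx
    obtain ⟨y, hy, he⟩ := hTU a ha _ ⟨x, hx, rfl⟩
    rw [hc]
    have : e.symm (a (e x)) = y := by
      rw [MulEquiv.symm_apply_eq]; exact he.symm
    rw [this]; exact hy)
  have hs : ∀ {H : Subgroup K}, H ≠ ⊤ → H.map e.toMonoidHom ≠ ⊤ := fun hH hi => hH (by
    apply map_injective (f := e.toMonoidHom) e.injective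
    rw [hi, Subgroup.map_top_of_surjective _ e.surjective])
  refine ⟨_, _, map_mono h1, map_mono h2, hs h1', hs h2', ?_, fun a ha => ?_⟩
  · rw [← Subgroup.map_sup, h12, Subgroup.map_top_of_surjective _ e.surjective]
  · obtain ⟨i1, i2⟩ := hinv (c a) ⟨a, ha, rfl⟩
    constructor
    · rintro _ ⟨x, hx, rfl⟩
      exact ⟨_, i1 x hx, by rw [hc]; exact e.apply_symm_apply _⟩
    · rintro _ ⟨x, hx, rfl⟩
      exact ⟨_, i2 x hx, by rw [hc]; exact e.apply_symm_apply _⟩

end transport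

section sylow

variable {K : Type*} [Group K] [Finite K]

theorem sylow_map_conj (U V : Sylow p K) :
    ∃ g : K, (U : Subgroup K).map (MulAut.conj g).toMonoidHom = V := by
  obtain ⟨g, hg⟩ := MulAction.exists_smul_eq K U V
  exact ⟨g, by rw [← hg]; rfl⟩

theorem Excl.of_one (U : Sylow p K) (h : ExclAt p (U : Subgroup K)) : Excl p K := fun V => by
  obtain ⟨g, hg⟩ := sylow_map_conj U V
  exact hg ▸ h.map (MulAut.conj g)

theorem Flat.of_one {n : ℕ} (U : Sylow p K) (h : FlatAt n (U : Subgroup K)) : Flat p n K := fun V => by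
  obtain ⟨g, hg⟩ := sylow_map_conj U V
  exact hg ▸ h.map (MulAut.conj g)

/-- A Sylow subgroup of the target is the image of one of the source. -/
theorem exists_sylow_map {K' : Type*} [Group K'] [Finite K'] (e : K ≃* K') (V : Sylow p K') :
    ∃ U : Sylow p K, (U : Subgroup K).map e.toMonoidHom = V := by
  let V' : Sylow p K := V.comapOfInjective e.toMonoidHom e.injective (by
    rw [MonoidHom.range_eq_top.2 e.surjective]; exact le_top)
  exact ⟨V', map_comap_eq_self_of_surjective e.surjective _⟩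

theorem Excl.of_mulEquiv {K' : Type*} [Group K'] [Finite K'] (h : Excl p K) (e : K ≃* K') :
    Excl p K' := fun V => by
  obtain ⟨U, hU⟩ := exists_sylow_map e V
  exact hU ▸ (h U).map e

theorem Flat.of_mulEquiv {n : ℕ} {K' : Type*} [Group K'] [Finite K'] (h : Flat p n K) (e : K ≃* K') :
    Flat p n K' := fun V => by
  obtain ⟨U, hU⟩ := exists_sylow_map e V
  exact hU ▸ (h U).map e

end sylow

section exclusion

variable {K : Type*} [Group K] [Finite K] {U : Subgroup K} {ι : Type*} {F : ι → Subgroup K}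

theorem Cover.eq_of_le (h : Cover U F) {i k : ι} (hle : F i ≤ F k) : k = i := by
  by_contra hne
  obtain ⟨g, hg, hg'⟩ := h.sep k
  exact hg (hle (hg' i (fun e => hne e.symm)))

/-- Automorphisms fixing `U` permute the family. -/
theorem Cover.perm (h : Cover U F) {a : MulAut K} (ha : ∀ x ∈ U, a x ∈ U) (i : ι) :
    ∃ k, (F i).map a.toMonoidHom = F k := by
  have hU : U.map a.toMonoidHom = U :=
    eq_of_le_of_card_ge (map_le_iff_le_comap.2 fun x hx => ha x hx)
      (by rw [Subgroup.card_map_of_injective a.injective])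
  have hne : ∀ {H : Subgroup K}, H ≠ ⊤ → H.map a.toMonoidHom ≠ ⊤ := fun hH hi => hH (by
    apply map_injective (f := a.toMonoidHom) a.injective
    rw [hi, Subgroup.map_top_of_surjective _ a.surjective])
  obtain ⟨k, hk⟩ := h.cover _ (hU ▸ map_mono (h.le i)) (hne (h.ne_top i))
  obtain ⟨l, hl⟩ := h.cover ((F k).comap a.toMonoidHom)
    (map_le_iff_le_comap.1 (hU.le.trans (h.le k))) fun e => h.ne_top k (by
      rw [← map_comap_eq_self_of_surjective (f := a.toMonoidHom) a.surjective (F k), e,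
        Subgroup.map_top_of_surjective _ a.surjective])
  have hil : F i ≤ F l := (map_le_iff_le_comap.1 hk).trans hl
  obtain rfl := h.eq_of_le hil
  refine ⟨k, le_antisymm hk ?_⟩
  rw [← map_comap_eq_self_of_surjective (f := a.toMonoidHom) a.surjective (F k)]
  exact map_mono hl

/-- An invariant proper non-empty set of members gives the exclusion. -/
theorem Cover.exists_pair (h : Cover U F) (T : Subgroup (MulAut K))
    (hTU : ∀ a ∈ T, ∀ x ∈ U, a x ∈ U) {A : Set ι} (hA₀ : A.Nonempty) (hA' : A ≠ Set.univ)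
    (hinv : ∀ a ∈ T, ∀ i ∈ A, ∀ k, (F i).map a.toMonoidHom = F k → k ∈ A) :
    ∃ H₁ H₂ : Subgroup K, U ≤ H₁ ∧ U ≤ H₂ ∧ H₁ ≠ ⊤ ∧ H₂ ≠ ⊤ ∧ H₁ ⊔ H₂ = ⊤ ∧
      ∀ a ∈ T, (∀ x ∈ H₁, a x ∈ H₁) ∧ ∀ x ∈ H₂, a x ∈ H₂ := by
  obtain ⟨i₁, hi₁⟩ := hA₀
  obtain ⟨i₂, hi₂⟩ := (Set.ne_univ_iff_exists_notMem A).1 hA'
  have hinv' : ∀ a ∈ T, ∀ i ∉ A, ∀ k, (F i).map a.toMonoidHom = F k → k ∉ A := by
    intro a ha i hi k hk hkA
    refine hi (hinv a⁻¹ (inv_mem ha) k hkA i ?_)
    rw [← hk, Subgroup.map_map]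
    convert Subgroup.map_id (F i) using 2
    ext x; simp
  have key : ∀ B : Set ι, (∀ a ∈ T, ∀ i ∈ B, ∀ k, (F i).map a.toMonoidHom = F k → k ∈ B) →
      ∀ a ∈ T, ∀ x ∈ (⨅ i : B, F i), a x ∈ ⨅ i : B, F i := by
    intro B hB a ha x hx
    refine mem_iInf.2 fun ⟨k, hk⟩ => ?_
    obtain ⟨i, hi⟩ := h.perm (fun x hx => hTU a⁻¹ (inv_mem ha) x hx) k
    have hiB : i ∈ B := hB a⁻¹ (inv_mem ha) k hk i hi
    have : x ∈ (F k).map (a⁻¹ : MulAut K).toMonoidHom := hi ▸ mem_iInf.1 hx ⟨i, hiB⟩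
    obtain ⟨y, hy, rfl⟩ := this
    show a ((a⁻¹ : MulAut K) y) ∈ F k
    rw [MulAut.apply_inv_self]
    exact hy
  have hU : ∀ B : Set ι, U ≤ ⨅ i : B, F i := fun B => le_iInf fun i => h.le i
  have hne : ∀ B : Set ι, B.Nonempty → (⨅ i : B, F i) ≠ ⊤ := fun B ⟨i, hi⟩ e =>
    h.ne_top i (top_le_iff.1 (e ▸ iInf_le (fun i : B => F i) ⟨i, hi⟩))
  refine ⟨⨅ i : A, F i, ⨅ i : (Aᶜ : Set ι), F i, hU _, hU _, hne A ⟨i₁, hi₁⟩, hne _ ⟨i₂, hi₂⟩, ?_,
    fun a ha => ⟨key A hinv a ha, key Aᶜ hinv' a ha⟩⟩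
  by_contra hne'
  obtain ⟨j, hj⟩ := h.cover _ ((hU A).trans le_sup_left) hne'
  obtain ⟨g, hg, hg'⟩ := h.sep j
  refine hg (hj ?_)
  by_cases hjA : j ∈ A
  · exact mem_sup_right (mem_iInf.2 fun i => hg' _ fun e => i.2 (e ▸ hjA))
  · exact mem_sup_left (mem_iInf.2 fun i => hg' _ fun e => hjA (e ▸ i.2))

theorem Cover.excl (h : Cover U F)
    (hA : ∀ T : Subgroup (MulAut K), IsPGroup p T → (∀ a ∈ T, ∀ x ∈ U, a x ∈ U) →
      ∃ A : Set ι, A.Nonempty ∧ A ≠ Set.univ ∧
        ∀ a ∈ T, ∀ i ∈ A, ∀ k, (F i).map a.toMonoidHom = F k → k ∈ A) :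
    ExclAt p U := fun T hT hTU =>
  let ⟨_, h1, h2, h3⟩ := hA T hT hTU
  h.exists_pair T hTU h1 h2 h3

/-- An element centralising the centre of `U` outside the meet gives the exclusion. -/
theorem Cover.excl_center [Finite ι] [IsSimpleGroup K] (h : Cover U F) (hU : IsPGroup p U)
    (hU1 : U ≠ ⊥) (hK : center K = ⊥) {g : K} {i : ι} (hg : g ∉ F i)
    (hgz : ∀ z ∈ U, (∀ u ∈ U, z * u = u * z) → g * z = z * g) : ExclAt p U := by
  set Z := U ⊓ centralizer (U : Set K) with hZ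
  set H := centralizer (Z : Set K) with hH
  have hUH : U ≤ H := fun u hu z hz => ((mem_centralizer_iff.1 hz.2) u hu).symm
  have hHne : H ≠ ⊤ := by
    intro e
    haveI : Nontrivial U := (nontrivial_iff_ne_bot U).2 hU1
    obtain ⟨z, hz, hz1⟩ := (nontrivial_iff_exists_ne_one _).1
      (IsPGroup.center_nontrivial (G := U) hU)
    refine hz1 (Subtype.ext ((mem_bot).1 (hK ▸ mem_center_iff.2 fun x => ?_) : (z : K) = 1))
    have hzZ : (z : K) ∈ Z := ⟨z.2, fun u hu => congrArg Subtype.val (mem_center_iff.1 hz ⟨u, hu⟩)⟩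
    exact ((mem_centralizer_iff.1 (e ▸ mem_top x : x ∈ H)) z hzZ).symm
  have hgH : g ∈ H := fun z hz => (hgz z hz.1 fun u hu => ((mem_centralizer_iff.1 hz.2) u hu).symm).symm
  refine h.excl fun T _ hTU => ?_
  have hTH : ∀ a ∈ T, ∀ x ∈ H, a x ∈ H := by
    intro a ha x hx z hz
    have hz' : (a⁻¹ : MulAut K) z ∈ Z := by
      refine ⟨hTU _ (inv_mem ha) z hz.1, fun u hu => ?_⟩
      have := (mem_centralizer_iff.1 hz.2) (a u) (hTU a ha u hu)
      have h2 := congrArg (a⁻¹ : MulAut K) this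
      simpa using h2
    have := congrArg a ((mem_centralizer_iff.1 hx) _ hz')
    simpa using this
  obtain ⟨j, hj⟩ := h.cover H hUH hHne
  refine ⟨{i | H ≤ F i}, ⟨j, hj⟩, fun e => hg ((e.ge (Set.mem_univ i)) hgH), fun a ha i hi k hk => ?_⟩
  show H ≤ F k
  rw [← hk]
  intro x hx
  exact ⟨(a⁻¹ : MulAut K) x, hi (hTH _ (inv_mem ha) x hx), by simp⟩

/-- Members of different order give the exclusion. -/
theorem Cover.excl_card [Finite ι] (h : Cover U F) {i k : ι}
    (hik : Nat.card (F i) ≠ Nat.card (F k)) : ExclAt p U := by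
  refine h.excl fun T _ _ => ⟨{j | Nat.card (F j) = Nat.card (F i)}, ⟨i, rfl⟩, ?_, ?_⟩
  · intro e
    exact hik ((e.ge (Set.mem_univ k) : Nat.card (F k) = Nat.card (F i)).symm)
  · intro a _ j hj l hl
    show Nat.card (F l) = Nat.card (F i)
    rw [← hl, Subgroup.card_map_of_injective a.injective]
    exact hj

/-- For odd `p` two members cannot be permuted. -/
theorem Cover.excl_two {F : Fin 2 → Subgroup K} (h : Cover U F) (hp2 : p ≠ 2) : ExclAt p U := by
  refine h.excl fun T hT hTU => ⟨{0}, ⟨0, rfl⟩, fun e => by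
    have := e.ge (Set.mem_univ (1 : Fin 2)); simp at this, fun a ha i hi k hk => ?_⟩
  rw [Set.mem_singleton_iff] at hi ⊢
  subst hi
  by_contra hk0
  obtain rfl : k = 1 := by omega
  obtain ⟨l, hl⟩ := h.perm (hTU a ha) 1
  have hl0 : l = 0 := by
    by_contra hne
    obtain rfl : l = 1 := by omega
    have e := map_injective (f := a.toMonoidHom) a.injective (hk.trans hl.symm)
    exact absurd (h.eq_of_le e.le) (by decide)
  subst hl0
  -- the two members are swapped by `a`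
  have key : ∀ n : ℕ, (F 0).map (a ^ n).toMonoidHom = if Even n then F 0 else F 1 := by
    intro n
    induction n with
    | zero =>
      rw [if_pos Even.zero, pow_zero]
      exact Subgroup.map_id _
    | succ n ih =>
      rw [pow_succ', show (a * a ^ n).toMonoidHom = a.toMonoidHom.comp (a ^ n).toMonoidHom from rfl,
        ← Subgroup.map_map, ih]
      by_cases hn : Even n
      · rw [if_pos hn, if_neg (by simpa [Nat.even_add_one] using hn), hk]
      · rw [if_neg hn, if_pos (Nat.even_add_one.2 hn), hl]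
  obtain ⟨m, hm⟩ := hT ⟨a, ha⟩
  have hm' : a ^ p ^ m = 1 := congrArg Subtype.val hm
  have := key (p ^ m)
  rw [hm', if_neg (fun he => hp2 (by
    have := (Nat.even_pow.1 he).1
    exact ((Nat.dvd_prime hp.out).1 (even_iff_two_dvd.1 this)).resolve_left (by norm_num) |>.symm))] at this
  exact absurd (h.eq_of_le (le_of_eq (by rw [← this]; exact (Subgroup.map_id _).symm : F 0 = F 1).symm))
    (by decide)

end exclusion

section pminimal

variable {X : Type*} [Group X] [Finite X] {K : Subgroup X} [K.Normal]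

theorem exists_data (hX : Cfsg.IsPMinimal p X) (U : Sylow p K) [IsSimpleGroup K]
    (hU1 : (U : Subgroup K) ≠ ⊥) (hU2 : (U : Subgroup K) ≠ ⊤) :
    ∃ (T : Sylow p X) (M : Subgroup X), IsCoatom M ∧ (T : Subgroup X) ≤ M ∧
      normalizer (((U : Subgroup K).map K.subtype : Subgroup X) : Set X) ≤ M ∧ ¬ K ≤ M ∧
      (∀ t ∈ (T : Subgroup X), ∀ x ∈ (U : Subgroup K), MulAut.conjNormal t x ∈ (U : Subgroup K)) ∧
      (∀ H : Subgroup K, (U : Subgroup K) ≤ H → H ≠ ⊤ →
        (∀ t ∈ (T : Subgroup X), ∀ x ∈ H, MulAut.conjNormal t x ∈ H) → H.map K.subtype ≤ M) ∧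
      (K = ⊤ → (T : Subgroup X) = (U : Subgroup K).map K.subtype) := by
  set U' := (U : Subgroup K).map K.subtype with hU'
  obtain ⟨T, hT⟩ := (U.isPGroup'.map K.subtype).exists_le_sylow
  obtain ⟨-, M, ⟨hM, hTM⟩, huniq⟩ := hX T
  have hTK : (T : Subgroup X).subgroupOf K = U :=
    U.is_maximal' (T.isPGroup'.comap_of_injective K.subtype K.subtype_injective)
      (map_le_iff_le_comap.1 hT)
  have hTU : ∀ t ∈ (T : Subgroup X), ∀ x ∈ (U : Subgroup K), MulAut.conjNormal t x ∈ (U : Subgroup K) := by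
    intro t ht x hx
    rw [← hTK, mem_subgroupOf] at hx ⊢
    rw [MulAut.conjNormal_apply]
    exact mul_mem (mul_mem ht hx) (inv_mem ht)
  have hN : normalizer (U' : Set X) ≠ ⊤ := by
    intro e
    haveI := normalizer_eq_top_iff.1 e
    haveI : (U : Subgroup K).Normal := by
      have := (inferInstance : U'.Normal).comap K.subtype
      rwa [comap_map_eq_self_of_injective K.subtype_injective] at this
    exact ((inferInstance : (U : Subgroup K).Normal).eq_bot_or_eq_top).elim hU1 hU2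
  have hTN : (T : Subgroup X) ≤ normalizer (U' : Set X) := by
    have h : ∀ t ∈ (T : Subgroup X), ∀ x, x ∈ U' → t * x * t⁻¹ ∈ U' := by
      rintro t ht _ ⟨x, hx, rfl⟩
      exact ⟨_, hTU t ht x hx, MulAut.conjNormal_apply _ _⟩
    intro t ht x
    refine ⟨h t ht x, fun hx => ?_⟩
    have := h t⁻¹ (inv_mem ht) _ hx
    simpa [mul_assoc] using this
  have hle : ∀ L : Subgroup X, (T : Subgroup X) ≤ L → L ≠ ⊤ → L ≤ M := by
    intro L hTL hL
    obtain ⟨M', hM', hLM⟩ := (eq_top_or_exists_le_coatom L).resolve_left hL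
    exact huniq M' ⟨hM', hTL.trans hLM⟩ ▸ hLM
  have hNM := hle _ hTN hN
  refine ⟨T, M, hM, hTM, hNM, fun hKM => hM.1 ?_, hTU, fun H hUH hH hinv => ?_, fun e => ?_⟩
  · have := Sylow.normalizer_sup_eq_top U
    exact top_le_iff.1 (this.ge.trans (sup_le hNM hKM))
  · set H' := H.map K.subtype
    have hn : (T : Subgroup X) ≤ normalizer (H' : Set X) := by
      have h : ∀ t ∈ (T : Subgroup X), ∀ x, x ∈ H' → t * x * t⁻¹ ∈ H' := by
        rintro t ht _ ⟨x, hx, rfl⟩
        exact ⟨_, hinv t ht x hx, MulAut.conjNormal_apply _ _⟩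
      intro t ht x
      refine ⟨h t ht x, fun hx => ?_⟩
      have := h t⁻¹ (inv_mem ht) _ hx
      simpa [mul_assoc] using this
    refine le_sup_left.trans (hle (H' ⊔ (T : Subgroup X)) le_sup_right fun e => hH ?_)
    refine eq_top_iff.2 fun k _ => ?_
    have hk : (k : X) ∈ H' ⊔ (T : Subgroup X) := e ▸ mem_top _
    rw [← SetLike.mem_coe, coe_mul_of_right_le_normalizer_left H' _ hn] at hk
    obtain ⟨_, ⟨h, hh, rfl⟩, t, ht, hkt⟩ := hk
    have htK : t ∈ K := by
      have : t = (h : X)⁻¹ * k := by rw [← hkt]; simp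
      rw [this]; exact mul_mem (inv_mem h.2) k.2
    have htH : (⟨t, htK⟩ : K) ∈ H := hUH (hTK ▸ mem_subgroupOf.2 ht)
    have : k = h * ⟨t, htK⟩ := Subtype.ext hkt.symm
    rw [this]
    exact mul_mem hh htH
  · rw [hU', ← hTK]
    exact (map_subgroupOf_eq_of_le (e ▸ le_top)).symm

/-- The exclusion property is incompatible with `p`-minimality. -/
theorem not_excl (hX : Cfsg.IsPMinimal p X) [IsSimpleGroup K] (U : Sylow p K)
    (hU1 : (U : Subgroup K) ≠ ⊥) (h : Excl p K) : False := by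
  have hU2 : (U : Subgroup K) ≠ ⊤ := by
    intro e
    obtain ⟨H₁, -, h1, -, h1', -⟩ := h U ⊥ IsPGroup.of_bot (fun a ha => by simp [(mem_bot).1 ha])
    exact h1' (top_le_iff.1 (e ▸ h1))
  obtain ⟨T, M, -, -, -, hKM, hTU, hle, -⟩ := exists_data hX U hU1 hU2
  obtain ⟨H₁, H₂, h1, h2, h1', h2', h12, hinv⟩ :=
    h U ((T : Subgroup X).map (MulAut.conjNormal (H := K))) (T.isPGroup'.map _) (by
      rintro _ ⟨t, ht, rfl⟩ x hx
      exact hTU t ht x hx)
  refine hKM ?_
  have := Subgroup.map_sup H₁ H₂ K.subtype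
  rw [h12, ← MonoidHom.range_eq_map, range_subtype] at this
  rw [this]
  exact sup_le (hle H₁ h1 h1' fun t ht => (hinv _ ⟨t, ht, rfl⟩).1)
    (hle H₂ h2 h2' fun t ht => (hinv _ ⟨t, ht, rfl⟩).2)

/-- The normalizer of `U` is maximal under the Borel property. -/
theorem coatom_of_flat {n : ℕ} (hX : Cfsg.IsPMinimal p X) [IsSimpleGroup K] (U : Sylow p K)
    (hU1 : (U : Subgroup K) ≠ ⊥) (hn : 0 < n) (h : Flat p n K) :
    IsCoatom (normalizer (((U : Subgroup K).map K.subtype : Subgroup X) : Set X)) ∧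
      (2 ≤ n → K ≠ ⊤) := by
  obtain ⟨F, hF, hB⟩ := h U
  have hU2 : (U : Subgroup K) ≠ ⊤ := fun e => hF.ne_top ⟨0, hn⟩ (top_le_iff.1 (e ▸ hF.le ⟨0, hn⟩))
  obtain ⟨T, M, hM, hTM, hNM, hKM, hTU, hle, hKtop⟩ := exists_data hX U hU1 hU2
  set N := normalizer (((U : Subgroup K).map K.subtype : Subgroup X) : Set X)
  have hUM : (U : Subgroup K) ≤ M.subgroupOf K :=
    map_le_iff_le_comap.1 (le_normalizer.trans hNM)
  have hMK : M.subgroupOf K ≠ ⊤ := fun e => hKM fun x hx =>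
    mem_subgroupOf.1 (e ▸ mem_top (⟨x, hx⟩ : K))
  obtain ⟨j, hj⟩ := hF.cover _ hUM hMK
  set S := (T : Subgroup X).map (MulAut.conjNormal (H := K)) with hS
  have hSU : ∀ a ∈ S, ∀ x ∈ (U : Subgroup K), a x ∈ (U : Subgroup K) := by
    rintro _ ⟨t, ht, rfl⟩ x hx
    exact hTU t ht x hx
  -- no proper non-empty invariant set of members
  have hno : ∀ A : Set (Fin n), A.Nonempty → A ≠ Set.univ →
      ¬ ∀ a ∈ S, ∀ i ∈ A, ∀ k, (F i).map a.toMonoidHom = F k → k ∈ A := by
    intro A h0 h1 h2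
    obtain ⟨H₁, H₂, u1, u2, n1, n2, h12, hinv⟩ := hF.exists_pair S hSU h0 h1 h2
    refine hKM ?_
    have := Subgroup.map_sup H₁ H₂ K.subtype
    rw [h12, ← MonoidHom.range_eq_map, range_subtype] at this
    rw [this]
    exact sup_le (hle H₁ u1 n1 fun t ht => (hinv _ ⟨t, ht, rfl⟩).1)
      (hle H₂ u2 n2 fun t ht => (hinv _ ⟨t, ht, rfl⟩).2)
  have hall : ∀ i, M.subgroupOf K ≤ F i := by
    by_contra hcon
    push Not at hcon
    obtain ⟨i, hi⟩ := hcon
    refine hno {k | M.subgroupOf K ≤ F k} ⟨j, hj⟩ (fun e => hi (e.ge (Set.mem_univ i))) ?_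
    rintro _ ⟨t, ht, rfl⟩ k hk l hl
    show M.subgroupOf K ≤ F l
    rw [← hl]
    intro x hx
    refine ⟨MulAut.conjNormal t⁻¹ x, hk ?_, ?_⟩
    · rw [mem_subgroupOf] at hx ⊢
      rw [MulAut.conjNormal_apply, inv_inv]
      exact mul_mem (mul_mem (inv_mem (hTM ht)) hx) (hTM ht)
    · show MulAut.conjNormal t (MulAut.conjNormal t⁻¹ x) = x
      rw [map_inv, MulAut.apply_inv_self]
  refine ⟨?_, fun hn2 e => ?_⟩
  · suffices hMN : M ≤ N from le_antisymm hMN hNM ▸ hM
    intro m hm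
    have hm' : m ∈ N ⊔ K := (Sylow.normalizer_sup_eq_top U).ge (mem_top m)
    rw [← SetLike.mem_coe, Subgroup.mul_normal] at hm'
    obtain ⟨a, ha, k, hk, rfl⟩ := hm'
    have hkM : (⟨k, hk⟩ : K) ∈ M.subgroupOf K := by
      rw [mem_subgroupOf]
      have := mul_mem (inv_mem (hNM ha)) hm
      simpa using this
    have := hB (mem_iInf.2 fun i => hall i hkM)
    exact mul_mem ha (le_normalizer_map K.subtype ⟨⟨k, hk⟩, this, rfl⟩)
  · refine hno {(⟨0, hn⟩ : Fin n)} ⟨_, rfl⟩ (fun e' => ?_) ?_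
    · have h' := e'.ge (Set.mem_univ (⟨1, by omega⟩ : Fin n))
      simp at h'
    rintro _ ⟨t, ht, rfl⟩ i hi k hk
    obtain ⟨u, hu, rfl⟩ : t ∈ (U : Subgroup K).map K.subtype := hKtop e ▸ ht
    rw [Set.mem_singleton_iff] at hi ⊢
    rw [← hi]
    refine hF.eq_of_le ?_
    rw [← hk]
    intro x hx
    refine ⟨u⁻¹ * x * u, mul_mem (mul_mem (inv_mem (hF.le i hu)) hx) (hF.le i hu), Subtype.ext ?_⟩
    show ((MulAut.conjNormal (K.subtype u) (u⁻¹ * x * u) : K) : X) = x
    rw [MulAut.conjNormal_apply]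
    simp [mul_assoc]

end pminimal

end CfsgLib.CharP.PMin
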