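import Cfsg.Agent.Lib.CharP.PMin.PolarMain
import Cfsg.Agent.Lib.CharP.Overgroup.Classical
import Cfsg.Agent.Lib.CharsMore.St.Symp
import Cfsg.Agent.Lib.CharsMore.St.Unit
import Cfsg.Agent.Lib.CharsMore.St.OrthStd
import Cfsg.Agent.Lib.Classical.SympSimple

/-!
Maximal overgroups of Sylow subgroups in the symplectic, unitary and orthogonal groups.
-/

set_option autoImplicit false
set_option linter.unusedSectionVars false
set_option linter.style.haveILetI false

namespace CfsgLib.CharP.PMin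

open Matrix CfsgLib.Classical CfsgLib.Classical.Unitary CfsgLib.CharsMore.St

variable {F : Type} [Field F] [Finite F] {p : ℕ} [hp : Fact p.Prime] [CharP F p]

section Sp

variable {m : ℕ}

theorem spPolar_fat : (spPolar F m).Fat := fun _ => ⟨0, 1, Or.inr one_ne_zero,
  fun _ => ⟨(spPolar F m).zero_left _, (spPolar F m).zero_left _⟩, trivial⟩

theorem spPolar_rad (x : Fin m ⊕ Fin m → F) (h : ∀ y, (spPolar F m).h x y = 0) : x = 0 := by
  by_contra hx
  obtain ⟨z, hz⟩ := exists_sbil_eq_one hx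
  exact one_ne_zero (hz.symm.trans (h z))

theorem sp_scalar [Nonempty (Fin m)] (c : Matrix.symplecticGroup (Fin m) F)
    (hc : c ∈ Subgroup.center (Matrix.symplecticGroup (Fin m) F)) :
    ∃ t : F, ∀ v, (spAct (F := F) (m := m) p).ρ c v = t • v := by
  rcases mem_center_sp_iff.1 hc with h | h
  · exact ⟨1, fun v => by
      show (c : Matrix (Fin m ⊕ Fin m) (Fin m ⊕ Fin m) F) *ᵥ v = _
      rw [h, one_mulVec, one_smul]⟩
  · exact ⟨-1, fun v => by
      show (c : Matrix (Fin m ⊕ Fin m) (Fin m ⊕ Fin m) F) *ᵥ v = _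
      rw [h, neg_mulVec, one_mulVec, neg_one_smul]⟩

theorem excl_psp (hm : 2 ≤ m) (hS : IsSimpleGroup (Cfsg.PSp m F)) (h : m = 2 → p ≠ 2) :
    Excl p (Cfsg.PSp m F) := by
  haveI : Nonempty (Fin m) := ⟨⟨0, by omega⟩⟩
  haveI : IsSimpleGroup (Matrix.symplecticGroup (Fin m) F ⧸
    Subgroup.center (Matrix.symplecticGroup (Fin m) F)) := hS
  refine excl_polar (spAct (F := F) (m := m) p) sp_scalar (full_psp hm hS) spPolar_rad ?_
  by_cases h2 : m = 2
  · exact Or.inr (Or.inr ⟨spPolar_fat, h2, Or.inr (h h2)⟩)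
  · exact Or.inl ⟨spPolar_fat, by omega⟩

theorem flat_psp_two (hS : IsSimpleGroup (Cfsg.PSp 2 F)) : Flat p 2 (Cfsg.PSp 2 F) := by
  haveI : IsSimpleGroup (Matrix.symplecticGroup (Fin 2) F ⧸
    Subgroup.center (Matrix.symplecticGroup (Fin 2) F)) := hS
  exact flat_polar (spAct (F := F) (m := 2) p) sp_scalar (full_psp le_rfl hS) spPolar_fat two_pos

end Sp

section SU

variable {n q : ℕ} {σ : F →+* F}

theorem su_scalar (hF : Nat.card F = q ^ 2) (hn : 2 ≤ n) (hσ : UFrob σ q) (t θ : F)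
    (ht : t * σ t = -1) (hθ : θ + σ θ = 1) (c : Cfsg.SU n F q)
    (hc : c ∈ Subgroup.center (Cfsg.SU n F q)) :
    ∃ r : F, ∀ v, (suAct hσ t θ ht hθ p).ρ c v = r • v := by
  obtain ⟨r, -, -, hr⟩ := SU_center_scalar hF hn hc
  refine ⟨r, fun v => ?_⟩
  refine Eq.trans (b := suRep (q := q) c v) rfl ?_
  rw [suRep_apply, hr]
  ext i
  simp [Matrix.mulVec_diagonal]

theorem suPolar_fat (hσ : UFrob σ q) (t θ : F) (ht : t * σ t = -1) (hθ : θ + σ θ = 1) :
    (suPolar (n := n) hσ t θ ht hθ).Fat := fun i => by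
  obtain ⟨c, hc0, hc⟩ := exists_skew hσ
  set P := suPolar (n := n) hσ t θ ht hθ
  refine ⟨0, c, Or.inr hc0, fun j => ⟨P.zero_left _, P.zero_left _⟩, ?_⟩
  refine (P.h_self_complete ?_ (P.zero_left _) (P.zero_left _) (P.sing_e i) (P.sing_f i) c).trans ?_
  · simp [P.h_ef]
  · simp only [P, suPolar, one_mul, uh_zero_left, add_zero]
    linear_combination hc

theorem exists_su_data (hF : Nat.card F = q ^ 2) : ∃ (σ : F →+* F) (_ : UFrob σ q) (t θ : F),
    t * σ t = -1 ∧ θ + σ θ = 1 ∧ ∃ c, σ c ≠ c := by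
  obtain ⟨σ, hσ⟩ := exists_uFrob hF
  obtain ⟨t, ht⟩ := exists_pow_succ_eq hF (c := -1) (by rw [← hσ.pow, map_neg, map_one])
  obtain ⟨θ, hθ⟩ := exists_trace hσ
  refine ⟨σ, hσ, t, θ, by rw [hσ.pow, ← pow_succ', ht], hθ, ?_⟩
  by_contra h
  push Not at h
  exact hσ.ne (RingHom.ext h)

theorem excl_psu (hF : Nat.card F = q ^ 2) (hn : 4 ≤ n) : Excl p (Cfsg.PSU n F q) := by
  obtain ⟨σ, hσ, t, θ, ht, hθ, hne⟩ := exists_su_data hF
  haveI : IsSimpleGroup (Cfsg.SU n F q ⧸ Subgroup.center (Cfsg.SU n F q)) :=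
    isSimpleGroup_PSU hF (by omega) (by omega)
  refine excl_polar (suAct hσ t θ ht hθ p) (su_scalar hF (by omega) hσ t θ ht hθ)
    (full_psu hF (by omega) (by omega)) (fun x hx => ?_) ?_
  · by_contra hx0
    obtain ⟨z, hz⟩ := exists_uh_eq_one hσ hx0
    refine one_ne_zero (hz.symm.trans ?_)
    first
      | exact hx z
      | exact hσ.swap_zero (hx z)
  · by_cases h : n / 2 = 2
    · exact Or.inr (Or.inr ⟨suPolar_fat hσ t θ ht hθ, h, Or.inl hne⟩)
    · exact Or.inl ⟨suPolar_fat hσ t θ ht hθ, by omega⟩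

theorem flat_psu_three (hF : Nat.card F = q ^ 2) (hq : 3 ≤ q) : Flat p 1 (Cfsg.PSU 3 F q) := by
  obtain ⟨σ, hσ, t, θ, ht, hθ, -⟩ := exists_su_data hF
  haveI : IsSimpleGroup (Cfsg.SU 3 F q ⧸ Subgroup.center (Cfsg.SU 3 F q)) :=
    isSimpleGroup_PSU hF le_rfl (fun _ => hq)
  exact flat_polar (suAct (n := 3) hσ t θ ht hθ p) (su_scalar hF (by omega) hσ t θ ht hθ)
    (full_psu hF le_rfl (fun _ => hq)) (suPolar_fat hσ t θ ht hθ) one_pos

end SU

section Omega

open QuadraticMap CfsgLib.Geometry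

variable {ι : Type} [Fintype ι] [DecidableEq ι] {m : ℕ} {Q : QuadraticForm F (ι → F)}

theorem excl_pomega (hQ : (polarBilin Q).Nondegenerate) (hR : reflGroup Q = orth Q) (B : QFrame Q m)
    (hdim : Fintype.card ι ≤ 2 * m + 2) (h5 : 5 ≤ Fintype.card ι)
    (hcase : (B.polarSpace.Fat ∧ 3 ≤ m) ∨ 4 ≤ m) {Q' : (ι → F) → F} (e : ⇑Q = Q') :
    Excl p (Cfsg.POmega F Q') := by
  subst e
  haveI := Fintype.ofFinite F
  haveI : Nonempty ι := Fintype.card_pos_iff.1 (by omega)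
  haveI : IsSimpleGroup (Cfsg.Omega F ⇑Q ⧸ Subgroup.center (Cfsg.Omega F ⇑Q)) :=
    isSimpleGroup_pOmega Q hQ (by omega)
  have hn : 5 ≤ Module.finrank F (ι → F) := by simpa using h5
  refine excl_polar (omegaAct hQ hR B hdim p) (fun c hc => ?_) (full_pomega hQ h5 rfl)
    (fun x hx => hQ.1 x hx) (hcase.imp_right Or.inl)
  let e : Cfsg.Omega F ⇑Q ≃* commutator (orth Q) := omegaEquiv Q
  have hc' : e c ∈ Subgroup.center (commutator (orth Q)) :=
    Subgroup.mem_center_iff.2 fun y => by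
      obtain ⟨y', rfl⟩ := e.surjective y
      rw [← map_mul, ← map_mul, Subgroup.mem_center_iff.1 hc y']
  obtain ⟨t, -, ht⟩ := (mem_center_omega_iff hQ hn (e c)).1 hc'
  exact ⟨t, fun v => ht v⟩

theorem excl_pomega_odd (h2 : (2 : F) ≠ 0) {m : ℕ} (hm : 3 ≤ m) :
    Excl p (Cfsg.POmega F (Cfsg.quadFormOdd m F)) := by
  refine excl_pomega (nondegenerate_odd h2 m) (reflGroup_eq_orth_of_two_ne (nondegenerate_odd h2 m) h2)
    (oddFrame F m) (by simp; omega) (by simp; omega) (Or.inl ⟨fun i => ?_, hm⟩) (coe_matQuad_odd m)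
  refine ⟨Pi.single (.inl ()) 1, -1, Or.inl (by simp), fun j => ?_, ?_⟩
  · constructor <;> simp [QFrame.polarSpace, oddFrame, polar_odd]
  · simp [QFrame.polarSpace, oddFrame, coe_matQuad_odd, Cfsg.quadFormOdd, Pi.single_apply, Finset.sum_add_distrib]

theorem excl_pomega_plus {m : ℕ} (hm : 4 ≤ m) : Excl p (Cfsg.POmega F (Cfsg.quadFormPlus m F)) :=
  excl_pomega (nondegenerate_plus m) (reflGroup_eq_orth (nondegenerate_plus m) (Or.inl (by simp; omega)))
    (plusFrame F m) (by simp; omega) (by simp; omega) (Or.inr hm) (coe_matQuad_plus m)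

theorem excl_pomega_minus {m : ℕ} (hm : 3 ≤ m) {a b : F}
    (hab : ∀ z₁ z₂ : F, z₁ ^ 2 + a * z₁ * z₂ + b * z₂ ^ 2 = 0 → z₁ = 0 ∧ z₂ = 0) :
    Excl p (Cfsg.POmega F (Cfsg.quadFormMinus m F a b)) := by
  refine excl_pomega (nondegenerate_minus m hab)
    (reflGroup_eq_orth (nondegenerate_minus m hab) (Or.inl (by simp; omega)))
    (minusFrame F m a b hab) (by simp; omega) (by simp; omega) (Or.inl ⟨fun i => ?_, hm⟩)
    (coe_matQuad_minus m a b)
  refine ⟨Pi.single (.inr 0) 1, -1, Or.inl (by simp), fun j => ?_, ?_⟩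
  · constructor <;> simp [QFrame.polarSpace, minusFrame, polar_minus, Pi.single_apply]
  · simp [QFrame.polarSpace, minusFrame, coe_matQuad_minus, Cfsg.quadFormMinus, Pi.single_apply, Finset.sum_add_distrib]

end Omega

end CfsgLib.CharP.PMin
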