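import Cfsg.Agent.Lib.CharP.PMin.BN
import Cfsg.Agent.Lib.CharP.Overgroup.Lie
import Cfsg.Agent.Lib.KnownB.ChevAutOut

/-!
Maximal overgroups of Sylow subgroups in the exceptional groups of Lie type.
-/

set_option autoImplicit false
set_option linter.style.haveILetI false
set_option linter.unusedSectionVars false

namespace CfsgLib.CharP.PMin

open Cfsg.Lie CfsgLib.Chev Subgroup CfsgLib.KnownB.ChevAutThm

variable {D : ChevalleyDatum} {A : Aux} {F : Type*} [Field F] [Fintype F] {p : ℕ} [hp : Fact p.Prime]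
  [CharP F p]

theorem diag_torsion (g : Good D A) {t : GL D.Idx F} (ht : t ∈ D.diagonalSubgroup F)
    (hk : ∃ k, t ^ p ^ k = 1) : t = 1 := by
  classical
  rw [diagonalSubgroup_eq g] at ht
  obtain ⟨c, rfl⟩ := ht
  obtain ⟨k, hk⟩ := hk
  have h1 : (tor D A c : GL D.Idx F) ^ (Fintype.card F - 1) = 1 := by
    have hc : c ^ (Fintype.card F - 1) = 1 := funext fun i => by
      rw [Pi.pow_apply, ← Fintype.card_units, pow_card_eq_one, Pi.one_apply]
    rw [← map_pow, hc, map_one]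
  obtain ⟨n, -, hq⟩ := FiniteField.card F p
  have hcop : (p ^ k).Coprime (Fintype.card F - 1) := by
    refine (Nat.Coprime.pow_left k ((hp.out.coprime_iff_not_dvd).2 fun hd => ?_))
    have h2 : p ∣ Fintype.card F := hq ▸ dvd_pow_self p n.ne_zero
    have h3 := Nat.dvd_sub h2 hd
    rw [Nat.sub_sub_self Fintype.card_pos, Nat.dvd_one] at h3
    exact hp.out.ne_one h3
  exact (pow_one _).symm.trans (hcop ▸ (pow_gcd_eq_one.2 ⟨hk, h1⟩))

/-- Monomial elements are congruent modulo `B` exactly when they act alike on the roots. -/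
theorem borel_iff_sameOn (h : Std D A) {n m : GL D.Idx F} {σ τ : ℕ → ℕ}
    (hn : n ∈ D.monomialSubgroup F) (hm : m ∈ D.monomialSubgroup F) (hσ : Acts h.good n σ)
    (hτ : Acts h.good m τ) : n⁻¹ * m ∈ D.borelSubgroup F ↔ SameOn D σ τ := by
  refine ⟨fun hb => ?_, fun e => ?_⟩
  · have hd := mem_diag_of_borel_monomial h hb (mul_mem (inv_mem hn) hm)
    rw [diagonalSubgroup_eq h.good] at hd
    obtain ⟨c, hc⟩ := hd
    intro r hr
    have h1 := hτ
    rw [show m = n * tor D A c by rw [hc]; group] at h1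
    exact (h1.unique (hσ.mul (acts_tor h.good c)) hr).symm
  · have hd := diag_of_sameOn h hm hn hτ hσ fun r hr => (e r hr).symm
    have := conj_diag h.good (inv_mem hn) hd
    refine diag_le_borel ?_
    convert this using 1
    group

/-! ### Untwisted groups -/

theorem splitU_chev (h : Std D A) (hr : 0 < D.rank) :
    SplitU (bnPair (F := F) h) p ((D.posUnipotent F).subgroupOf (D.group F)) := by
  have g := h.good
  haveI : Finite (GL D.Idx F) := finite_GL
  refine ⟨(isPGroup_posU h).comap_of_injective _ (D.group F).subtype_injective, fun e => ?_,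
    comap_mono pos_le_borel, fun b hb => ?_, fun b hb => ?_, fun t ht hk => ?_⟩
  · have hs := simple_pos g hr
    have hm : (⟨xG g (D.simple 0) 1, xG_mem_group g _ 1⟩ : ↥(D.group F)) ∈
        (D.posUnipotent F).subgroupOf (D.group F) :=
      mem_subgroupOf.2 (xG_mem_posUnipotent g hs 1)
    rw [e, mem_bot] at hm
    exact one_ne_zero (xG_eq_one h hs.1 (congrArg Subtype.val hm))
  · rw [mem_normalizer_iff]
    intro y
    simp only [mem_subgroupOf, Subgroup.coe_mul, Subgroup.coe_inv]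
    refine ⟨fun hy => borel_normalizes_pos g hb hy, fun hy => ?_⟩
    have hb' : (b : GL D.Idx F)⁻¹ ∈ D.borelSubgroup F := inv_mem (mem_subgroupOf.1 hb)
    have := borel_normalizes_pos g hb' hy
    simpa [mul_assoc] using this
  · obtain ⟨u, hu, c, e⟩ := (mem_borel_iff g).1 (mem_subgroupOf.1 hb)
    have hug : u ∈ D.group F := posUnipotent_le_group g hu
    have htg : tor D A c ∈ D.group F := borel_le_group g (tor_mem_borel g c)
    refine ⟨⟨u, hug⟩, mem_subgroupOf.2 hu, ⟨_, htg⟩, ?_, Subtype.ext e⟩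
    have hd : tor D A c ∈ D.borelSubgroup F ⊓ D.monomialSubgroup F := by
      rw [borel_inf_monomial h, diagonalSubgroup_eq g]
      exact ⟨c, rfl⟩
    exact mem_inf.2 ⟨mem_subgroupOf.2 hd.1, mem_subgroupOf.2 hd.2⟩
  · refine Subtype.ext (diag_torsion (p := p) g
      (mem_diag_of_borel_monomial h (mem_subgroupOf.1 ht.1) (mem_subgroupOf.1 ht.2)) ?_)
    obtain ⟨k, hk⟩ := hk
    exact ⟨k, congrArg Subtype.val hk⟩

/-- The generators numbered by the nodes. -/
noncomputable def chevIndex (h : Std D A) : Fin D.rank ≃ (bnPair (F := F) h).S :=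
  Equiv.ofBijective (fun i => ⟨sE h.good i, sE_mem h i⟩) (by
    refine ⟨fun a b e => ?_, fun s => ?_⟩
    · have e' : nS F h.good a = nS F h.good b :=
        congrArg (fun x : (bnPair (F := F) h).S => ((x : ↥(D.group F)) : GL D.Idx F)) e
      exact Fin.ext (nS_inj (F := F) h a.isLt b.isLt (by rw [e', inv_mul_cancel]; exact one_mem _))
    · obtain ⟨i, hi, e⟩ := s.2
      exact ⟨⟨i, hi⟩, Subtype.ext (Subtype.ext e.symm)⟩)

/-- Two reflections commute. -/
noncomputable def commChk (D : ChevalleyDatum) (A : Aux) {n : ℕ} (w : Fin n → List ℕ) (i k : Fin n) : Bool :=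
  (List.range D.nroots).all fun r => decide (wf A (w i ++ w k) r = wf A (w k ++ w i) r)

theorem commChk_iff {n : ℕ} {w : Fin n → List ℕ} {i k : Fin n} :
    commChk D A w i k = true ↔ SameOn D (wf A (w i ++ w k)) (wf A (w k ++ w i)) := by
  simp [commChk, SameOn]

variable (D A) in
/-- The number of nodes not commuting with a given one. -/
noncomputable def valency {n : ℕ} (w : Fin n → List ℕ) (i : Fin n) : ℕ :=
  (Finset.univ.filter fun l => commChk D A w i l = false).card

theorem nW_pair (g : Good D A) (i k : ℕ) : nW F g ([i] ++ [k]) = nS F g i * nS F g k := by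
  simp [nW]

theorem excl_chev (h : Std D A) [IsSimpleGroup ↥(D.group F)] {i₀ k₀ : Fin D.rank}
    (hdeg : valency D A (fun i : Fin D.rank => [(i : ℕ)]) i₀ ≠
      valency D A (fun i : Fin D.rank => [(i : ℕ)]) k₀) : Excl p ↥(D.group F) := by
  haveI : Finite (GL D.Idx F) := finite_GL
  refine excl_bn_deg (splitU_chev h (lt_of_le_of_lt (Nat.zero_le _) i₀.isLt)) (chevIndex h)
    (commChk D A (fun i : Fin D.rank => [(i : ℕ)])) (fun i k => ?_) ⟨i₀, k₀, hdeg⟩
  have hl : ∀ a b : Fin D.rank, Letters D ([(a : ℕ)] ++ [(b : ℕ)]) := fun a b j hj => by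
    simp at hj
    rcases hj with rfl | rfl
    exacts [a.isLt, b.isLt]
  rw [commChk_iff, ← borel_iff_sameOn (F := F) h (nW_mem h.good (hl i k)) (nW_mem h.good (hl k i))
    (nW_acts h.good (hl i k)) (nW_acts h.good (hl k i)), nW_pair, nW_pair]
  rw [GenComm, BN.Eqv]
  show _ ↔ ((sE h.good i * sE h.good k)⁻¹ * (sE h.good k * sE h.good i) : ↥(D.group F)) ∈
    (D.borelSubgroup F).subgroupOf (D.group F)
  rw [mem_subgroupOf, Subgroup.coe_mul, Subgroup.coe_inv, Subgroup.coe_mul, Subgroup.coe_mul]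
  rfl

theorem excl_chev_two (h : Std D A) [IsSimpleGroup ↥(D.group F)] (hr : D.rank = 2) (hp2 : p ≠ 2) :
    Excl p ↥(D.group F) := by
  haveI : Finite (GL D.Idx F) := finite_GL
  exact excl_bn_two (splitU_chev h (by omega)) ((finCongr hr.symm).trans (chevIndex h)) hp2

/-- Without node symmetries the maximal parabolic subgroups are invariant. -/
theorem excl_chev_graph (h : Std D A) (dt : AutData D A) [IsSimpleGroup ↥(D.group F)]
    (hr : 2 ≤ D.rank) (hout : Nat.card (outPerm (F := F) h dt).range = 1) :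
    Excl p ↥(D.group F) := by
  have g := h.good
  haveI : Finite (GL D.Idx F) := finite_GL
  have hs := splitU_chev (F := F) (p := p) h (by omega)
  set i₀ : Fin D.rank := ⟨0, by omega⟩
  obtain ⟨V, hV⟩ := exists_sylow_bn hs ⟨_, (chevIndex h i₀).2⟩
  refine Excl.of_one V ?_
  rw [hV]
  have hcov := cover_bmem_fin (chevIndex h) hs
  refine hcov.excl fun T _ hTU => ⟨{i₀}, ⟨i₀, rfl⟩, fun e => ?_, fun θ hθ i hi k hk => ?_⟩
  · have : (⟨1, by omega⟩ : Fin D.rank) = i₀ := e.ge (Set.mem_univ _)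
    exact absurd (congrArg Fin.val this) one_ne_zero
  rw [Set.mem_singleton_iff] at hi ⊢
  subst hi
  by_contra hki
  obtain ⟨x, π, hS⟩ := exists_shape h dt.add dt.opp θ
  obtain rfl : π = 1 := by
    rw [← nodePerm_eq h dt hS]
    have h1 := (Subgroup.card_eq_one.1 hout)
    exact (Subgroup.mem_bot).1 (h1 ▸ ⟨QuotientGroup.mk θ, rfl⟩)
  obtain ⟨f, f', hS'⟩ := hS
  obtain ⟨R, hR⟩ := exists_rootPerm h dt (hS'.diagram h dt)
  set φ := MulAut.conj x * θ with hφ
  set U := (D.posUnipotent F).subgroupOf (D.group F)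
  have hθU : U.map θ.toMonoidHom = U := eq_of_le_of_card_ge
    (map_le_iff_le_comap.2 fun y hy => hTU θ hθ y hy)
    (by rw [Subgroup.card_map_of_injective θ.injective])
  -- the conjugating element lies in `B`
  have hxB : x ∈ (bnPair h).B := by
    refine mem_subgroupOf.2 (CfsgLib.KnownB.ChevField.mem_borel_of_conj_pos h x.2 fun y hy => ?_)
    obtain ⟨z, hz, ez⟩ := hθU.ge (mem_subgroupOf.2 hy : (⟨y, posUnipotent_le_group g hy⟩ : ↥(D.group F)) ∈ U)
    have h1 := (hS'.map_U h hR z).2 (mem_subgroupOf.1 hz)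
    rw [hφ, MulAut.mul_apply, MulAut.conj_apply, show θ z = ⟨y, posUnipotent_le_group g hy⟩ from ez] at h1
    simpa using h1
  have hfix : ∀ j, φ (sE g j.val) ∈ ((bnPair (F := F) h).B ⊔ Subgroup.closure {sE g (j : Fin D.rank)}) ∧
      ∀ M : Subgroup ↥(D.group F), (bnPair (F := F) h).B ≤ M → φ (sE g j.val) ∈ M → sE g j.val ∈ M := by
    intro j
    have h1 := hS'.map_nG h j (t := 1) one_ne_zero (hm := nS_mem_group g j)
    have hc := hS'.f_ne h j (t := 1) one_ne_zero
    have hd := hG_mem_diag g j.isLt hc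
    set d : ↥(D.group F) := ⟨hG g (D.simple j) (f j 1),
      borel_le_group g (diag_le_borel hd)⟩
    have e : φ (sE g j.val) = d * sE g j.val := Subtype.ext (by
      show (φ ⟨nG g (D.simple j) 1, _⟩ : GL D.Idx F) = _
      rw [h1, Equiv.Perm.one_apply, nG_eq_hG g (g.simple_lt j j.isLt)]
      rfl)
    have hdB : d ∈ (bnPair (F := F) h).B := mem_subgroupOf.2 (diag_le_borel hd)
    rw [e]
    refine ⟨mul_mem (mem_sup_left hdB) (mem_sup_right (Subgroup.subset_closure rfl)), fun M hM hm => ?_⟩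
    have := mul_mem (inv_mem (hM hdB)) hm
    rwa [inv_mul_cancel_left] at this
  have hmapφ : (bmem (bnPair h) (chevIndex h i₀)).map φ.toMonoidHom = bmem (bnPair h) (chevIndex h k) := by
    rw [hφ, show (MulAut.conj x * θ).toMonoidHom = (MulAut.conj x).toMonoidHom.comp θ.toMonoidHom from rfl,
      ← Subgroup.map_map, hk]
    ext z
    simp only [Subgroup.mem_map_equiv, MulAut.conj_symm_apply]
    have hxM := B_le_bmem (chevIndex h k) hxB
    exact ⟨fun hz => by simpa [mul_assoc] using mul_mem (mul_mem hxM hz) (inv_mem hxM),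
      fun hz => mul_mem (mul_mem (inv_mem hxM) hz) hxM⟩
  have hmem : φ (sE g k.val) ∈ bmem (bnPair h) (chevIndex h k) := by
    rw [← hmapφ]
    exact ⟨_, mem_bmem (r := chevIndex h k) (fun e => hki ((chevIndex h).injective e)), rfl⟩
  exact not_mem_bmem (chevIndex h k) ((hfix k).2 _ (B_le_bmem _) hmem)

/-! ### Twisted groups -/

variable {f : Fold} {T : List FState}

theorem splitU_twist {h : Std D A} (τ : Twist F h f) (S : τ.Split T) (hnum : 0 < f.num) :
    SplitU S.pair p ((D.posUnipotent F ⊓ τ.fix).subgroupOf τ.fix) := by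
  have g := h.good
  haveI : Finite (GL D.Idx F) := finite_GL
  have hnorm : ∀ y : GL D.Idx F, y ∈ D.borelSubgroup F ⊓ τ.fix →
      ∀ z ∈ D.posUnipotent F ⊓ τ.fix, y * z * y⁻¹ ∈ D.posUnipotent F ⊓ τ.fix := fun y hy z hz =>
    mem_inf.2 ⟨borel_normalizes_pos g hy.1 hz.1, mul_mem (mul_mem hy.2 hz.2) (inv_mem hy.2)⟩
  refine ⟨((isPGroup_posU h).to_le inf_le_left).comap_of_injective _ τ.fix.subtype_injective, fun e => ?_,
    comap_mono (inf_le_inf_right _ pos_le_borel), fun b hb => ?_, fun b hb => ?_, fun t ht hk => ?_⟩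
  · obtain ⟨a, ha⟩ := Subgroup.ne_bot_iff_exists_ne_one.1 (S.ne 0 hnum)
    have hm : (⟨a.1, (τ.V_le_pos _ a.2).2⟩ : ↥τ.fix) ∈ (D.posUnipotent F ⊓ τ.fix).subgroupOf τ.fix :=
      mem_subgroupOf.2 (τ.V_le_pos _ a.2)
    rw [e, mem_bot] at hm
    exact ha (Subtype.ext (congrArg Subtype.val hm :))
  · have hb' : (b : GL D.Idx F) ∈ D.borelSubgroup F ⊓ τ.fix := mem_subgroupOf.1 hb
    rw [mem_normalizer_iff]
    intro y
    simp only [mem_subgroupOf, Subgroup.coe_mul, Subgroup.coe_inv]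
    refine ⟨fun hy => hnorm _ hb' _ hy, fun hy => ?_⟩
    have := hnorm _ (inv_mem hb') _ hy
    simpa [mul_assoc] using this
  · obtain ⟨hbB, hbf⟩ := mem_inf.1 (mem_subgroupOf.1 hb)
    obtain ⟨u, hu, t, ht, e, he, v, hv, ey⟩ := τ.fix_decomp S.tab hbf
    set m := nW F g (f.flat e.word) with hmdef
    have hmN : m ∈ D.monomialSubgroup F :=
      nW_mem g (τ.valid.flat_letters (S.tab.letters e he))
    have hvp := τ.V_le_pos _ hv
    have hmB : m ∈ D.borelSubgroup F := by
      have h1 : (u * t)⁻¹ * (b : GL D.Idx F) * v⁻¹ ∈ D.borelSubgroup F :=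
        mul_mem (mul_mem (inv_mem (mul_mem (pos_le_borel hu.1) (diag_le_borel ht.1))) hbB)
          (inv_mem (pos_le_borel hvp.1))
      convert h1 using 1
      rw [ey]; group
    have hmd := mem_diag_of_borel_monomial h hmB hmN
    have hmf : m ∈ τ.fix := τ.nFlat_fix (S.tab.letters e he)
    have htm : t * m ∈ D.diagonalSubgroup F ⊓ τ.fix :=
      mem_inf.2 ⟨mul_mem ht.1 hmd, mul_mem ht.2 hmf⟩
    have hu' : u * ((t * m) * v * (t * m)⁻¹) ∈ D.posUnipotent F ⊓ τ.fix :=
      mul_mem hu (mem_inf.2 ⟨diag_normalizes_pos g htm.1 hvp.1,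
        mul_mem (mul_mem htm.2 hvp.2) (inv_mem htm.2)⟩)
    refine ⟨⟨_, hu'.2⟩, mem_subgroupOf.2 hu', ⟨_, htm.2⟩, ?_, Subtype.ext ?_⟩
    · rw [S.inf_eq]
      exact mem_subgroupOf.2 htm
    · show (b : GL D.Idx F) = u * ((t * m) * v * (t * m)⁻¹) * (t * m)
      rw [ey]; group
  · rw [S.inf_eq] at ht
    refine Subtype.ext (diag_torsion (p := p) g (mem_subgroupOf.1 ht).1 ?_)
    obtain ⟨k, hk⟩ := hk
    exact ⟨k, congrArg Subtype.val hk⟩

theorem excl_twist_deg {h : Std D A} (τ : Twist F h f) (S : τ.Split T) [IsSimpleGroup ↥τ.fix]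
    {i₀ k₀ : Fin f.num} (hdeg : valency D A (fun i : Fin f.num => f.w i) i₀ ≠
      valency D A (fun i : Fin f.num => f.w i) k₀) : Excl p ↥τ.fix := by
  haveI : Finite (GL D.Idx F) := finite_GL
  refine excl_bn_deg (splitU_twist τ S (lt_of_le_of_lt (Nat.zero_le _) i₀.isLt)) S.index
    (commChk D A (fun i : Fin f.num => f.w i)) (fun i k => ?_) ⟨i₀, k₀, hdeg⟩
  have hN := fun j : Fin f.num => τ.nJ_mem_monomial j.isLt
  have hA : ∀ a b : Fin f.num, Acts h.good (τ.nJ a * τ.nJ b) (wf A (f.w a ++ f.w b)) := fun a b => by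
    rw [show wf A (f.w a ++ f.w b) = wf A (f.w a) ∘ wf A (f.w b) from funext fun r => wf_append _ _ r]
    exact (τ.nJ_acts a.isLt).mul (τ.nJ_acts b.isLt)
  rw [commChk_iff, ← borel_iff_sameOn (F := F) h (mul_mem (hN i) (hN k)) (mul_mem (hN k) (hN i))
    (hA i k) (hA k i)]
  rw [GenComm, BN.Eqv]
  show _ ↔ (((S.index i : ↥τ.fix) * S.index k)⁻¹ * ((S.index k : ↥τ.fix) * S.index i)) ∈
    (D.borelSubgroup F ⊓ τ.fix).subgroupOf τ.fix
  rw [mem_subgroupOf, mem_inf]
  exact (and_iff_left (((S.index i : ↥τ.fix) * S.index k)⁻¹ * ((S.index k : ↥τ.fix) * S.index i)).2).symm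

theorem excl_twist_two {h : Std D A} (τ : Twist F h f) (S : τ.Split T) [IsSimpleGroup ↥τ.fix]
    (hnum : f.num = 2) (hp2 : p ≠ 2) : Excl p ↥τ.fix := by
  haveI : Finite (GL D.Idx F) := finite_GL
  exact excl_bn_two (splitU_twist τ S (by omega)) ((finCongr hnum.symm).trans S.index) hp2

theorem card_parabolic_twist {h : Std D A} (τ : Twist F h f) (S : τ.Split T) (j : Fin f.num) :
    Nat.card (S.pair.parabolic {(S.index j : ↥τ.fix)}) =
      Nat.card S.pair.B + Nat.card S.pair.B * Nat.card ↥(τ.V (f.w j)) := by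
  have g := h.good
  haveI : Finite (GL D.Idx F) := finite_GL
  have hV : ∀ v ∈ τ.V (f.w j), v ∈ τ.fix := fun v hv => (τ.V_le_pos _ hv).2
  rw [← Nat.card_congr (Subgroup.subgroupOfEquivOfLe hV).toEquiv]
  refine card_parabolic_singleton (S.index j).2 (fun v hv => mem_subgroupOf.2
    ⟨pos_le_borel (τ.V_le_pos _ (mem_subgroupOf.1 hv)).1, v.2⟩) ?_ ?_
  · intro b hb b' hb' v hv v' hv' e
    obtain ⟨e1, e2⟩ := normal_form_unique h (τ.nJ_acts j.isLt) (mem_subgroupOf.1 hb).1
      (mem_subgroupOf.1 hb').1 (mem_subgroupOf.1 hv).1 (mem_subgroupOf.1 hv').1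
      (congrArg Subtype.val e)
    exact ⟨Subtype.ext e1, Subtype.ext e2⟩
  · intro x hx
    obtain ⟨c, hc, c', hc', rfl⟩ := BN.mem_cell.1 hx
    obtain ⟨u, hu, t, ht, e, he, v, hv, ey⟩ := τ.fix_decomp S.tab (c * S.index j * c').2
    have hl := τ.valid.flat_letters (S.tab.letters e he)
    set m := nW F g (f.flat e.word)
    have hmN : m ∈ D.monomialSubgroup F := nW_mem g hl
    have hvB : v ∈ D.borelSubgroup F := pos_le_borel (τ.V_le_pos _ hv).1
    have hutB : u * t ∈ D.borelSubgroup F := mul_mem (pos_le_borel hu.1) (diag_le_borel ht.1)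
    have hd := bruhat_unique h hutB hvB (mem_subgroupOf.1 hc).1 (mem_subgroupOf.1 hc').1 hmN
      (τ.nJ_mem_monomial j.isLt) (by
        have h1 : u * t * m * v = (c : GL D.Idx F) * τ.nJ j * c' := by rw [← ey]; rfl
        exact h1)
    have hsame : SameOn D (wf A (f.flat e.word)) (wf A (f.w j)) :=
      (borel_iff_sameOn h hmN (τ.nJ_mem_monomial j.isLt) (nW_acts g hl) (τ.nJ_acts j.isLt)).1
        (diag_le_borel hd)
    rw [τ.V_congr hsame] at hv
    have hB : u * t * m * (τ.nJ j)⁻¹ ∈ D.borelSubgroup F := by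
      rw [mul_assoc]
      exact mul_mem hutB (diag_le_borel (diag_of_sameOn h hmN (τ.nJ_mem_monomial j.isLt) (nW_acts g hl)
        (τ.nJ_acts j.isLt) hsame))
    have hBf : u * t * m * (τ.nJ j)⁻¹ ∈ τ.fix :=
      mul_mem (mul_mem (mul_mem hu.2 ht.2) (τ.nFlat_fix (S.tab.letters e he))) (inv_mem (τ.nJ_fix j.isLt))
    refine ⟨⟨_, hBf⟩, mem_subgroupOf.2 ⟨hB, hBf⟩, ⟨v, hV v hv⟩, mem_subgroupOf.2 hv, Subtype.ext ?_⟩
    show ((c * S.index j * c' : ↥τ.fix) : GL D.Idx F) = u * t * m * (τ.nJ j)⁻¹ * τ.nJ j * v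
    rw [ey]; group

theorem excl_twist_card {h : Std D A} (τ : Twist F h f) (S : τ.Split T) [IsSimpleGroup ↥τ.fix]
    (hnum : f.num = 2) (hne : Nat.card ↥(τ.V (f.w 0)) ≠ Nat.card ↥(τ.V (f.w 1))) :
    Excl p ↥τ.fix := by
  haveI : Finite (GL D.Idx F) := finite_GL
  refine excl_bn_card (splitU_twist τ S (by omega)) ((finCongr hnum.symm).trans S.index) ?_
  rw [Equiv.trans_apply, Equiv.trans_apply, card_parabolic_twist, card_parabolic_twist]
  intro e
  exact hne (Nat.eq_of_mul_eq_mul_left Nat.card_pos (Nat.add_left_cancel e))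

theorem flat_twist_one {h : Std D A} (τ : Twist F h f) (S : τ.Split T) [IsSimpleGroup ↥τ.fix]
    (hnum : f.num = 1) : Flat p 1 ↥τ.fix := by
  haveI : Finite (GL D.Idx F) := finite_GL
  exact flat_bn (splitU_twist τ S (by omega)) ((finCongr hnum.symm).trans S.index) one_pos

end CfsgLib.CharP.PMin
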