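import Cfsg.Agent.Lib.CharP.PMin.Basic
import Cfsg.Agent.Lib.CharP.Overgroup.Classical
import Cfsg.Agent.Lib.KnownB.PSLAut.Unip
import Cfsg.Agent.Lib.Classical.Parabolic

/-!
Maximal overgroups of Sylow subgroups in the projective special linear groups.
-/

set_option autoImplicit false
set_option linter.unusedSectionVars false
set_option linter.style.haveILetI false

namespace CfsgLib.CharP.PMin

open Matrix CfsgLib.Classical CfsgLib.KnownB.PSLAut CfsgLib.Base Subgroup

variable {n : ℕ} {F : Type} [Field F] [Finite F] {p : ℕ} [hp : Fact p.Prime] [CharP F p]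

local notation "SLn" => Matrix.SpecialLinearGroup (Fin n) F
local notation "PSLn" => Matrix.ProjectiveSpecialLinearGroup (Fin n) F
local notation "Mn" => Matrix (Fin n) (Fin n) F
local notation "Tv" => Matrix.SpecialLinearGroup.transvection (F := F)

variable (n F) in
/-- The stabiliser of a coordinate subspace in `SL`. -/
def stb (k : ℕ) : Subgroup (Matrix.SpecialLinearGroup (Fin n) F) :=
  (parab F n k).comap Matrix.SpecialLinearGroup.toGL

theorem mem_stb {k : ℕ} {g : SLn} :
    g ∈ stb n F k ↔ ∀ i j : Fin n, k ≤ (i : ℕ) → (j : ℕ) < k → (g : Mn) i j = 0 := by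
  rw [stb, Subgroup.mem_comap, mem_parab_iff]
  rfl

theorem transvection_mem_U' {i j : Fin n} (h : i < j) (c : F) : Tv h.ne c ∈ U n F := by
  refine ⟨fun k l (hkl : l < k) => ?_, fun k => ?_⟩
  · rw [Matrix.SpecialLinearGroup.transvection_coe]
    simp [Matrix.one_apply_ne hkl.ne', Matrix.single_apply]
    rintro rfl rfl
    exact absurd h (not_lt.2 hkl.le)
  · rw [Matrix.SpecialLinearGroup.transvection_coe]
    simp [Matrix.single_apply]
    rintro rfl rfl
    exact absurd h (lt_irrefl _)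

theorem U_le_stb (k : ℕ) : U n F ≤ stb n F k := fun g hg => mem_stb.2 fun i j hi hj =>
  hg.1 (show j < i from Fin.lt_def.2 (by omega))

/-- A subspace invariant under the unitriangular group is a coordinate subspace. -/
theorem eq_coordSub {W : Submodule F (Fin n → F)}
    (hW : ∀ g ∈ U n F, ∀ v ∈ W, slAct g v ∈ W) :
    ∃ k ≤ n, W = coordSub F n k := by
  classical
  have hle : ∃ k, k ≤ n ∧ W ≤ coordSub F n k :=
    ⟨n, le_rfl, fun v _ i hi => absurd i.isLt (not_lt.2 hi)⟩
  set k := Nat.find hle with hk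
  obtain ⟨hkn, hWk⟩ := Nat.find_spec hle
  refine ⟨k, hkn, le_antisymm hWk ?_⟩
  rcases Nat.eq_zero_or_pos k with h0 | h0
  · intro v hv
    rw [show v = 0 from funext fun i => hv i (by omega)]
    exact zero_mem _
  have hnot := Nat.find_min hle (show k - 1 < k by omega)
  push Not at hnot
  obtain ⟨v, hv, hv'⟩ := SetLike.not_le_iff_exists.1 (hnot (by omega))
  rw [mem_coordSub] at hv'
  push Not at hv'
  obtain ⟨t, ht, htv⟩ := hv'
  have htk : (t : ℕ) < k := by
    by_contra hcon
    exact htv (hWk hv t (not_lt.1 hcon))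
  have hj : ∀ j : Fin n, j < t → ∀ c : F, Pi.single j c ∈ W := by
    intro j hjt c
    have h1 := sub_mem (hW _ (transvection_mem_U' hjt (c / v t)) v hv) hv
    rw [slAct_apply, transvection_mulVec, add_sub_cancel_left, div_mul_cancel₀ _ htv] at h1
    exact h1
  have hsingle : ∀ j : Fin n, (j : ℕ) < k → ∀ c : F, Pi.single j c ∈ W := by
    intro j hjk c
    rcases lt_or_eq_of_le (show j ≤ t from Fin.le_def.2 (by omega)) with h | rfl
    · exact hj j h c
    have h1 : v - ∑ i ∈ Finset.univ.erase j, Pi.single i (v i) = Pi.single j (v j) := by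
      rw [sub_eq_iff_eq_add', Finset.sum_erase_add _ _ (Finset.mem_univ j), Finset.univ_sum_single]
    have h2 : Pi.single j (v j) ∈ W := h1 ▸ sub_mem hv (Submodule.sum_mem _ fun i hi => by
      rcases lt_or_gt_of_ne (Finset.mem_erase.1 hi).1 with h | h
      · exact hj i h _
      · rw [show v i = 0 from hWk hv i (by have := Fin.lt_def.1 h; omega), Pi.single_zero]
        exact zero_mem _)
    have h3 := W.smul_mem (c / v j) h2
    rwa [← Pi.single_smul, smul_eq_mul, div_mul_cancel₀ _ htv] at h3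
  intro w hw
  rw [← Finset.univ_sum_single w]
  refine Submodule.sum_mem _ fun i _ => ?_
  by_cases hi : (i : ℕ) < k
  · exact hsingle i hi _
  · rw [hw i (not_lt.1 hi), Pi.single_zero]
    exact zero_mem _

theorem sl_scalar (c : SLn) (hc : c ∈ center SLn) : ∃ r : F, ∀ v, slAct c v = r • v := by
  obtain ⟨r, -, hr⟩ := Matrix.SpecialLinearGroup.mem_center_iff.1 hc
  exact ⟨r, fun v => by
    rw [slAct_apply, ← hr, Matrix.scalar_apply]
    ext i
    simp [Matrix.mulVec_diagonal]⟩

theorem center_le_stb (k : ℕ) : center SLn ≤ stb n F k := by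
  intro c hc
  obtain ⟨r, -, hr⟩ := Matrix.SpecialLinearGroup.mem_center_iff.1 hc
  refine mem_stb.2 fun i j hi hj => ?_
  rw [← hr, Matrix.scalar_apply, Matrix.diagonal_apply_ne]
  intro e; subst e; omega

variable (n F) in
/-- The maximal parabolic subgroups through the upper triangular group. -/
def pmem (i : Fin (n - 1)) : Subgroup (Matrix.ProjectiveSpecialLinearGroup (Fin n) F) :=
  (stb n F ((i : ℕ) + 1)).map (QuotientGroup.mk' _)

theorem mk_mem_pmem {g : SLn} {i : Fin (n - 1)} :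
    QuotientGroup.mk' (center SLn) g ∈ pmem n F i ↔ g ∈ stb n F ((i : ℕ) + 1) := by
  refine ⟨fun ⟨h, hh, e⟩ => ?_, fun h => ⟨g, h, rfl⟩⟩
  have : h⁻¹ * g ∈ center SLn := by rw [← QuotientGroup.eq]; exact e
  have h2 := mul_mem hh (center_le_stb _ this)
  rwa [mul_inv_cancel_left] at h2

theorem exists_sylow_psl (hn : 1 ≤ n) :
    ∃ P : Sylow p PSLn, (P : Subgroup _) = (U n F).map (QuotientGroup.mk' (center SLn)) := by
  obtain ⟨P, hP⟩ := exists_sylow_U n F p hn
  exact ⟨P.mapSurjective (QuotientGroup.mk'_surjective (center SLn)), by rw [← hP]; rfl⟩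

theorem cover_psl (hn : 2 ≤ n) (h4 : n = 2 → 4 ≤ Nat.card F) :
    Cover ((U n F).map (QuotientGroup.mk' (center SLn))) (pmem n F) := by
  classical
  obtain ⟨p, _⟩ := CharP.exists F
  haveI : Fact p.Prime := ⟨CharP.char_is_prime F p⟩
  haveI : Nonempty (Fin n) := ⟨⟨0, by omega⟩⟩
  set π := QuotientGroup.mk' (center SLn) with hπ
  have hsep : ∀ i : Fin (n - 1), ∃ g, g ∉ stb n F ((i : ℕ) + 1) ∧
      ∀ k, k ≠ i → g ∈ stb n F ((k : ℕ) + 1) := by
    intro i
    have hlt : (⟨i, by omega⟩ : Fin n) ≠ ⟨(i : ℕ) + 1, by omega⟩ := fun e => by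
      simpa using congrArg Fin.val e
    refine ⟨Tv hlt.symm 1, fun h => ?_, fun k hk => mem_stb.2 fun a b ha hb => ?_⟩
    · have := mem_stb.1 h ⟨(i : ℕ) + 1, by omega⟩ ⟨i, by omega⟩ le_rfl (Nat.lt_succ_self _)
      simp [Matrix.SpecialLinearGroup.transvection_coe] at this
    · rw [Matrix.SpecialLinearGroup.transvection_coe]
      have hab : a ≠ b := fun e => by subst e; omega
      simp [Matrix.one_apply_ne hab, Matrix.single_apply]
      rintro rfl rfl
      exact hk (Fin.ext (by simp at ha hb; omega))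
  refine ⟨fun i => map_mono (U_le_stb _), fun i e => ?_, fun H hUH hH => ?_, fun i => ?_⟩
  · obtain ⟨g, hg, -⟩ := hsep i
    exact hg (mk_mem_pmem.1 (e ▸ mem_top (π g)))
  swap
  · obtain ⟨g, hg, hg'⟩ := hsep i
    exact ⟨π g, fun h => hg (mk_mem_pmem.1 h), fun k hk => mk_mem_pmem.2 (hg' k hk)⟩
  obtain ⟨P, hP⟩ := exists_sylow_psl (p := p) (n := n) (F := F) (by omega)
  have hi : ¬ p ∣ H.index := fun hd => P.not_dvd_index
    (hd.trans (index_dvd_of_le (hP ▸ hUH)))
  have hR : Cfsg.pCore p ↥H ≠ ⊥ := fun h => hH (full_psl hn h4 H h hi)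
  set R := (Cfsg.pCore p ↥H).map H.subtype with hRdef
  have hRp : IsPGroup p R := (isPGroup_pCore p ↥H).map _
  have hkey : ∀ h ∈ H, ∀ x ∈ R, h * x * h⁻¹ ∈ R := by
    rintro h hh _ ⟨x, hx, rfl⟩
    exact ⟨⟨h, hh⟩ * x * ⟨h, hh⟩⁻¹,
      (inferInstance : (Cfsg.pCore p ↥H).Normal).conj_mem x hx _, rfl⟩
  have hRn : (U n F).map π ≤ normalizer (R : Set PSLn) := by
    intro h hh
    rw [mem_normalizer_iff]
    refine fun x => ⟨hkey h (hUH hh) x, fun hx => ?_⟩
    have := hkey _ (inv_mem (hUH hh)) _ hx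
    simpa [mul_assoc] using this
  have hRU : R ≤ (U n F).map π := by
    have := P.is_maximal' (IsPGroup.to_sup_of_normal_left' hRp (hP ▸ P.isPGroup') hRn)
      (hP.le.trans le_sup_right)
    rw [hP] at this
    exact le_sup_left.trans this.le
  obtain ⟨PS, hPS⟩ := exists_sylow_U n F p (show 1 ≤ n by omega)
  have hUp : IsPGroup p (U n F) := hPS ▸ PS.isPGroup'
  set H' := H.comap π
  have hUH' : U n F ≤ H' := fun u hu => hUH ⟨u, hu, rfl⟩
  set R' := R.comap π ⊓ U n F
  have hconj : ∀ g ∈ H', ∀ r ∈ R', g * r * g⁻¹ ∈ R' := by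
    intro g hg r hr
    have h1 : π (g * r * g⁻¹) ∈ R := by
      rw [map_mul, map_mul, map_inv]
      exact hkey _ hg _ hr.1
    refine ⟨h1, ?_⟩
    obtain ⟨u, hu, e⟩ := hRU h1
    have hc : u⁻¹ * (g * r * g⁻¹) ∈ center SLn := by rw [← QuotientGroup.eq]; exact e
    obtain ⟨t, ht⟩ := sl_scalar _ hc
    obtain ⟨a, ha⟩ := hUp ⟨r, hr.2⟩
    obtain ⟨b, hb⟩ := hUp ⟨u, hu⟩
    have hcom : Commute u⁻¹ (g * r * g⁻¹) := by
      have h2 : Commute u (u⁻¹ * (g * r * g⁻¹)) := mem_center_iff.1 hc u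
      have h3 : Commute u (g * r * g⁻¹) := by
        have := (Commute.refl u).mul_right h2
        rwa [mul_inv_cancel_left] at this
      exact h3.inv_left
    have hra : (g * r * g⁻¹) ^ p ^ a = 1 := by
      rw [conj_pow, show r ^ p ^ a = 1 from congrArg Subtype.val ha, mul_one, mul_inv_cancel]
    have hub : u ^ p ^ b = 1 := congrArg Subtype.val hb
    have : u⁻¹ * (g * r * g⁻¹) = 1 :=
      eq_one_of_scalar (F := F) (V := Fin n → F) slAct slAct_injective ht (k := a + b) (by
        rw [hcom.mul_pow, inv_pow, pow_add, pow_mul (g * r * g⁻¹), hra, one_pow, mul_one, mul_comm,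
          pow_mul u, hub, one_pow, inv_one])
    rw [inv_mul_eq_one] at this
    exact this ▸ hu
  have hR'0 : R' ≠ ⊥ := by
    intro e
    refine hR ((map_eq_bot_iff_of_injective _ H.subtype_injective).1 (eq_bot_iff.2 fun x hx => ?_))
    obtain ⟨u, hu, rfl⟩ := hRU hx
    rw [(mem_bot).1 (e ▸ (⟨hx, hu⟩ : u ∈ R') : u ∈ (⊥ : Subgroup SLn)), map_one]
    exact one_mem _
  -- the fixed subspace of the radical
  let W : Submodule F (Fin n → F) :=
    { carrier := {v | ∀ r ∈ R', slAct r v = v}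
      add_mem' := fun {a b} ha hb r hr => by rw [map_add, ha r hr, hb r hr]
      zero_mem' := fun r _ => map_zero _
      smul_mem' := fun c a ha r hr => by rw [map_smul, ha r hr] }
  have hWinv : ∀ g ∈ H', ∀ v ∈ W, slAct g v ∈ W := by
    intro g hg v hv r hr
    have h1 := hv _ (hconj g⁻¹ (inv_mem hg) r hr)
    rw [inv_inv, map_mul, map_mul, LinearEquiv.mul_apply, LinearEquiv.mul_apply] at h1
    have h2 := congrArg (slAct g) h1
    rwa [act_inv_apply (F := F) (V := Fin n → F) slAct] at h2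
  obtain ⟨k, hkn, hk⟩ := eq_coordSub (W := W) fun g hg => hWinv g (hUH' hg)
  have hk0 : 0 < k := by
    by_contra h
    obtain rfl : k = 0 := by omega
    let e : Fin n → F := Pi.single ⟨0, by omega⟩ 1
    have he : e ∈ W := by
      intro r hr
      rw [slAct_apply]
      funext i
      simp [e, Matrix.mulVec_single]
      rcases eq_or_ne i ⟨0, by omega⟩ with rfl | hi
      · simp [hr.2.2]
      · rw [Pi.single_apply, if_neg hi]
        exact hr.2.1 (show (⟨0, by omega⟩ : Fin n) < i from Fin.lt_def.2 (by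
          have : (i : ℕ) ≠ 0 := fun h => hi (Fin.ext h)
          simp; omega))
    rw [hk] at he
    simpa [e] using congrFun (show e = 0 from funext fun i => he i (Nat.zero_le _)) ⟨0, by omega⟩
  have hkn' : k ≠ n := by
    intro e
    obtain ⟨r, hr, hr1⟩ := (Subgroup.ne_bot_iff_exists_ne_one.1 hR'0) |> fun ⟨⟨r, hr⟩, h⟩ =>
      (⟨r, hr, fun e => h (Subtype.ext e)⟩ : ∃ r, r ∈ R' ∧ r ≠ 1)
    refine hr1 (slAct_injective (LinearEquiv.ext fun v => ?_))
    have : v ∈ W := by rw [hk]; exact fun i hi => absurd i.isLt (by omega)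
    rw [this r hr, map_one]
    rfl
  refine ⟨⟨k - 1, by omega⟩, fun x hx => ?_⟩
  obtain ⟨g, rfl⟩ := QuotientGroup.mk'_surjective (center SLn) x
  refine mk_mem_pmem.2 (mem_stb.2 fun i j hi hj => ?_)
  simp only [show k - 1 + 1 = k by omega] at hi hj
  have h1 : slAct g (Pi.single j 1) ∈ coordSub F n k :=
    hk ▸ hWinv g hx _ (hk ▸ single_mem_coordSub hj 1)
  simpa [slAct_apply, Matrix.mulVec_single] using h1 i hi

theorem iInf_pmem_le :
    ⨅ i, pmem n F i ≤ normalizer ((U n F).map (QuotientGroup.mk' (center SLn)) : Set PSLn) := by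
  intro x hx
  obtain ⟨g, rfl⟩ := QuotientGroup.mk'_surjective (center SLn) x
  refine le_normalizer_map _ ⟨g, ?_, rfl⟩
  have hg : ∀ g : SLn, (∀ k, k < n → g ∈ stb n F k) → (g : Mn).BlockTriangular id :=
    fun g h i j (hij : j < i) => mem_stb.1 (h i i.isLt) i j le_rfl (Fin.lt_def.1 hij)
  have hall : ∀ k, k < n → g ∈ stb n F k := by
    intro k hk
    rcases Nat.eq_zero_or_pos k with rfl | h0
    · exact mem_stb.2 fun i j _ hj => absurd hj (Nat.not_lt_zero _)
    have h1 : g ∈ stb n F ((⟨k - 1, by omega⟩ : Fin (n - 1)) + 1 : ℕ) :=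
      mk_mem_pmem.1 (mem_iInf.1 hx ⟨k - 1, by omega⟩)
    simpa [show k - 1 + 1 = k by omega] using h1
  have key : ∀ g : SLn, (∀ k, k < n → g ∈ stb n F k) → ∀ u ∈ U n F, g * u * g⁻¹ ∈ U n F := by
    intro g hg' u hu
    have h1 := hg g hg'
    have h2 := hg g⁻¹ fun k hk => inv_mem (hg' k hk)
    refine ⟨by rw [Matrix.SpecialLinearGroup.coe_mul, Matrix.SpecialLinearGroup.coe_mul]
               exact (h1.mul hu.1).mul h2, fun i => ?_⟩
    rw [Matrix.SpecialLinearGroup.coe_mul, Matrix.SpecialLinearGroup.coe_mul,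
      blockTriangular_diag_mul (h1.mul hu.1) h2, blockTriangular_diag_mul h1 hu.1, hu.2, mul_one,
      ← blockTriangular_diag_mul h1 h2, ← Matrix.SpecialLinearGroup.coe_mul, mul_inv_cancel,
      Matrix.SpecialLinearGroup.coe_one, Matrix.one_apply_eq]
  rw [SetLike.mem_coe, mem_normalizer_iff]
  refine fun u => ⟨key g hall u, fun hu => ?_⟩
  have := key g⁻¹ (fun k hk => inv_mem (hall k hk)) _ hu
  simpa [mul_assoc] using this

theorem flat_psl (hn : 2 ≤ n) (h4 : n = 2 → 4 ≤ Nat.card F) : Flat p (n - 1) PSLn := by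
  obtain ⟨P, hP⟩ := exists_sylow_psl (p := p) (n := n) (F := F) (by omega)
  refine Flat.of_one P ⟨pmem n F, ?_⟩
  rw [hP]
  exact ⟨cover_psl hn h4, iInf_pmem_le⟩

theorem excl_psl_three (hp2 : p ≠ 2) : Excl p (Matrix.ProjectiveSpecialLinearGroup (Fin 3) F) := by
  obtain ⟨P, hP⟩ := exists_sylow_psl (p := p) (n := 3) (F := F) (by omega)
  refine Excl.of_one P ?_
  rw [hP]
  exact (cover_psl (n := 3) (F := F) (by omega) (by omega)).excl_two hp2

theorem excl_psl (hn : 4 ≤ n) : Excl p PSLn := by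
  haveI : NeZero n := ⟨by omega⟩
  haveI : IsSimpleGroup PSLn := isSimpleGroup_PSL_fin n (by omega) (by omega)
  obtain ⟨P, hP⟩ := exists_sylow_psl (p := p) (n := n) (F := F) (by omega)
  refine Excl.of_one P ?_
  rw [hP]
  have hcov := cover_psl (n := n) (F := F) (by omega) (by omega)
  let a : Fin n := ⟨0, by omega⟩
  let b : Fin n := ⟨n - 1, by omega⟩
  let c : Fin n := ⟨1, by omega⟩
  let d : Fin n := ⟨2, by omega⟩
  have hab : a ≠ b := by simp only [a, b, ne_eq, Fin.ext_iff]; omega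
  have hdc : d ≠ c := by simp only [d, c, ne_eq, Fin.ext_iff]; omega
  have hbot : (U n F).map (QuotientGroup.mk' (center SLn)) ≠ ⊥ := by
    intro e
    have hx : (X a b (1 : F) : PSLn) ∈ (U n F).map (QuotientGroup.mk' (center SLn)) :=
      ⟨_, (X_center (a := a) (b := b) rfl rfl hab 1).1, rfl⟩
    have h0 : (X a b (0 : F) : PSLn) ∈ (⊥ : Subgroup PSLn) :=
      e ▸ ⟨_, (X_center (a := a) (b := b) rfl rfl hab 0).1, rfl⟩
    exact one_ne_zero (X_injective hab (((mem_bot).1 (e ▸ hx)).trans ((mem_bot).1 h0).symm))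
  have hcen : center PSLn = ⊥ := by
    refine ((inferInstance : (center PSLn).Normal).eq_bot_or_eq_top).resolve_right fun e => ?_
    haveI : ((U n F).map (QuotientGroup.mk' (center SLn))).Normal := ⟨fun x _ g => by
      rw [(mem_center_iff.1 (e ▸ mem_top x : x ∈ center PSLn)) g]
      simpa⟩
    exact ((inferInstance : ((U n F).map (QuotientGroup.mk' (center SLn))).Normal).eq_bot_or_eq_top).elim
      hbot fun h => hcov.ne_top ⟨0, by omega⟩ (top_le_iff.1 (h ▸ hcov.le _))
  refine hcov.excl_center (p := p) (hP ▸ P.isPGroup') hbot hcen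
    (g := QuotientGroup.mk' (center SLn) (Tv hdc 1)) (i := ⟨1, by omega⟩) (fun h => ?_) ?_
  · have := mem_stb.1 (mk_mem_pmem.1 h) d c (by simp [d]) (by simp [c])
    simp [Matrix.SpecialLinearGroup.transvection_coe, hdc] at this
  rintro _ ⟨z, hz, rfl⟩ hzc
  obtain ⟨r, hr⟩ := U_center (a := a) (b := b) rfl rfl hab hz (fun t ht => hzc _ ⟨t, ht, rfl⟩)
  rw [show QuotientGroup.mk' (center SLn) z = X a b r from hr, X_eq_transvection hab,
    QuotientGroup.mk'_apply, ← QuotientGroup.mk_mul, ← QuotientGroup.mk_mul]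
  refine congrArg _ (Subtype.ext ?_)
  simp only [Matrix.SpecialLinearGroup.coe_mul, Matrix.SpecialLinearGroup.transvection_coe, mul_add,
    add_mul, one_mul, mul_one]
  rw [Matrix.single_mul_single_of_ne (h := ?_), Matrix.single_mul_single_of_ne (h := ?_)]
  · abel
  · simp only [a, b, c, d, ne_eq, Fin.ext_iff]; omega
  · simp only [a, b, c, d, ne_eq, Fin.ext_iff]; omega

end CfsgLib.CharP.PMin
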