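import Cfsg.Agent.Lib.CharP.PMin.Lie
import Cfsg.Agent.Lib.CharP.Overgroup.Tits

/-!
The Tits group: two maximal overgroups of a Sylow 2-subgroup of different orders.
-/

set_option autoImplicit false
set_option linter.unusedSectionVars false
set_option linter.style.haveILetI false
set_option maxRecDepth 100000

namespace CfsgLib.CharP.PMin

open Cfsg.Lie CfsgLib.Chev CfsgLib.Chev.F42.Two Subgroup

theorem card_inf_cases {G : Type*} [Group G] [Finite G] {H : Subgroup G} (hH : H.index = 2)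
    (P : Subgroup G) :
    Nat.card P = Nat.card (P.subgroupOf H) ∨ Nat.card P = 2 * Nat.card (P.subgroupOf H) := by
  have h := (H.subgroupOf P).card_mul_index
  have e : Nat.card (H.subgroupOf P) = Nat.card (P.subgroupOf H) := by
    rw [← Subgroup.card_map_of_injective P.subtype_injective, subgroupOf_map_subtype,
      ← Subgroup.card_map_of_injective H.subtype_injective, subgroupOf_map_subtype, inf_comm]
  rw [e] at h
  haveI : H.Normal := normal_of_index_eq_two hH
  have h2 : (H.subgroupOf P).index ∣ 2 := hH ▸ relIndex_dvd_index_of_normal H P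
  rcases (Nat.dvd_prime Nat.prime_two).1 h2 with e2 | e2 <;> rw [e2] at h <;> omega

/-- Two panels of different size in a normal subgroup of index two. -/
theorem excl_index_two {G : Type*} [Group G] [Finite G] (P : Cfsg.BNPair G) (H : Subgroup G) [H.Normal]
    (hH : H.index = 2) (hB : IsPGroup 2 P.B) (hodd : ¬ 2 ∣ P.B.index)
    (hprime : ∀ s ∈ P.S, (P.B.relIndex (P.parabolic {s})).Prime) (μ : G → ℕ)
    (hdesc : ∀ n ∈ P.N, n ∉ P.B → ∃ s ∈ P.S, μ (s⁻¹ * n) < μ n ∧
      ∃ i ∈ P.B, i ∈ H ∧ n * i * n⁻¹ ∈ P.parabolic {s} ∧ n * i * n⁻¹ ∉ P.B ∧ n * i * n⁻¹ ∈ H)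
    (hsing : ∀ s ∈ P.S, ∀ g ∈ P.parabolic {s}, g ∈ P.B ∨ g ∈ BN.cell P s)
    (e : Fin 2 ≃ P.S) {m₀ m₁ : ℕ} (h0 : Nat.card (P.parabolic {(e 0 : G)}) = m₀)
    (h1 : Nat.card (P.parabolic {(e 1 : G)}) = m₁) (hm : m₀ ≠ m₁ ∧ m₀ ≠ 2 * m₁ ∧ m₁ ≠ 2 * m₀) :
    Excl 2 H := by
  classical
  haveI : Fact (Nat.Prime 2) := ⟨Nat.prime_two⟩
  set U := P.B.subgroupOf H
  obtain ⟨V, hV⟩ := (hB.comap_of_injective H.subtype H.subtype_injective : IsPGroup 2 U).exists_le_sylow
  have hUV : U = (V : Subgroup H) := by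
    refine le_antisymm hV fun x hx => ?_
    have e := eq_inf_of_two_group P H hodd hB (map_subtype_le (V : Subgroup H))
      (V.isPGroup'.map _) (fun y hy => ⟨⟨y, hy.2⟩, hV (mem_subgroupOf.2 hy.1), rfl⟩)
    exact mem_subgroupOf.2 (e.le ⟨x, hx, rfl⟩).1
  set F : Fin 2 → Subgroup H := fun i => (P.parabolic {(e i : G)}).subgroupOf H
  have hsep : ∀ i k, i ≠ k → ∃ g, g ∈ F k ∧ g ∉ F i := by
    intro i k hik
    obtain ⟨s', hs', -, b, hb, hbH, hyP, hyB, hyH⟩ :=
      hdesc _ (P.subset (e k).2) (BN.not_mem_B (P := P) (e k).2)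
    have hk : (e k : G) ∈ P.parabolic {(e k : G)} :=
      (le_sup_right : Subgroup.closure {(e k : G)} ≤ _) (Subgroup.subset_closure rfl)
    have hy : (e k : G) * b * (e k : G)⁻¹ ∈ P.parabolic {(e k : G)} :=
      mul_mem (mul_mem hk ((le_sup_left : P.B ≤ _) hb)) (inv_mem hk)
    refine ⟨⟨_, hyH⟩, mem_subgroupOf.2 hy, fun hc => ?_⟩
    rcases hsing _ (e k).2 _ hy with h | h
    · exact hyB h
    obtain ⟨c, hc1, c', hc2, ey⟩ := BN.mem_cell.1 h
    have hki : (e k : G) ∈ P.parabolic {(e i : G)} := by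
      have hc' : (e k : G) * b * (e k : G)⁻¹ ∈ P.parabolic {(e i : G)} := mem_subgroupOf.1 hc
      rw [ey] at hc'
      have := mul_mem (mul_mem (inv_mem ((le_sup_left : P.B ≤ _) hc1)) hc')
        (inv_mem ((le_sup_left : P.B ≤ P.parabolic {(e i : G)}) hc2))
      show (e k : G) ∈ P.B ⊔ Subgroup.closure {(e i : G)}
      convert this using 1
      group
    exact hik (e.injective (Subtype.ext (Set.mem_singleton_iff.1
      (BN.mem_J_of_mem_parabolic (Set.singleton_subset_iff.2 (e i).2) (e k).2 hki)))).symm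
  have hcov : Cover U F := by
    refine ⟨fun i => comap_mono le_sup_left, fun i hi' => ?_, fun M hUM hM => ?_, fun i => ?_⟩
    · obtain ⟨k, hk⟩ := exists_ne i
      obtain ⟨g, -, hg⟩ := hsep i k hk.symm
      exact hg (hi' ▸ mem_top g)
    · obtain ⟨J, hJS, hMJ, hJtop⟩ := index_two_letters P H hB hodd hprime
        μ hdesc (M := M.map H.subtype)
        (fun y hy => ⟨⟨y, hy.2⟩, hUM (mem_subgroupOf.2 hy.1), rfl⟩) (map_subtype_le M)
      have hJne : J ≠ P.S := fun h => hM (eq_top_iff.2 fun y _ => by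
        obtain ⟨z, hz, ez⟩ := hJtop h y.2
        exact (Subtype.ext ez : z = y) ▸ hz)
      obtain ⟨s, hs, hsJ⟩ := Set.exists_of_ssubset (hJS.ssubset_of_ne hJne)
      obtain ⟨k, hk⟩ := e.surjective ⟨s, hs⟩
      obtain ⟨i, hik⟩ := exists_ne k
      refine ⟨i, fun x hx => mem_subgroupOf.2 (BN.parabolic_mono (fun r hr => ?_) (hMJ ⟨x, hx, rfl⟩))⟩
      obtain ⟨l, hl⟩ := e.surjective ⟨r, hJS hr⟩
      have hlk : l ≠ k := fun h => hsJ (by
        have : (r : G) = s := congrArg Subtype.val (hl.symm.trans ((congrArg e h).trans hk))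
        exact this ▸ hr)
      rw [Set.mem_singleton_iff, show i = l by omega, hl]
    · obtain ⟨k, hk⟩ := exists_ne i
      obtain ⟨g, hg, hg'⟩ := hsep i k hk.symm
      exact ⟨g, hg', fun l hl => by obtain rfl : l = k := by omega
                                    exact hg⟩
  refine Excl.of_one V (hUV ▸ hcov.excl_card (i := 0) (k := 1) fun heq => ?_)
  have a0 := card_inf_cases hH (P.parabolic {(e 0 : G)})
  have a1 := card_inf_cases hH (P.parabolic {(e 1 : G)})
  rw [h0] at a0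
  rw [h1] at a1
  change Nat.card ((P.parabolic {(e 0 : G)}).subgroupOf H) =
    Nat.card ((P.parabolic {(e 1 : G)}).subgroupOf H) at heq
  omega

theorem excl_tits_commutator : Excl 2 ↥(commutator ↥T.fix) := by
  haveI : Finite (GL chevF4.Idx K2) := finite_GL
  haveI : Fact (Nat.Prime 2) := ⟨Nat.prime_two⟩
  have hc : ∀ i : Fin foldF42.num,
      Nat.card ((F42.split (σ := RingHom.id K2) hi).pair.parabolic
        {((F42.split (σ := RingHom.id K2) hi).index i : ↥T.fix)}) =
      2 ^ 12 + 2 ^ 12 * Nat.card ↥(T.V (foldF42.w i)) := fun i => by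
    rw [card_parabolic_twist, Tits2.card_borel]
  refine excl_index_two (F42.split (σ := RingHom.id K2) hi).pair (commutator ↥T.fix)
    Tits2.commutator_index (IsPGroup.of_card Tits2.card_borel) (by rw [TitsOdd.index_B]; decide)
    (fun s hs => TitsOdd.panel hs) TitsOdd.mu (fun n hn hnB => TitsOdd.desc_tits hn hnB)
    (fun s hs g hg => ?_)
    ((finCongr (show foldF42.num = 2 by rfl).symm).trans (F42.split (σ := RingHom.id K2) hi).index)
    (m₀ := 12288) (m₁ := 20480) ?_ ?_ (by omega)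
  · rcases TitsOdd.parabolic_cases hs hg with h | ⟨b, hb, b', hb', e⟩
    · exact Or.inl h
    · exact Or.inr (BN.mem_cell.2 ⟨b, hb, b', hb', e⟩)
  · exact (hc ⟨0, by decide⟩).trans (by rw [(F42.class0 hi).1]; simp)
  · exact (hc ⟨1, by decide⟩).trans (by rw [(F42.class1 hi).1]; simp)

theorem excl_tits : Excl 2 Cfsg.Lie.TitsGroup := by
  have key : ∀ G0 : Subgroup (GL chevF4.Idx K2), G0 = T.fix → Excl 2 ↥(commutator ↥G0) := by
    rintro G0 rfl
    exact excl_tits_commutator
  exact key _ (F42.twisted_eq_fix hσ hi)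

end CfsgLib.CharP.PMin
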