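import Cfsg.Agent.Lib.CharP.PMin.Small

/-!
The unitary group of order 6048 on the 63 lines: two invariant overgroups of a Sylow 2-subgroup.
-/

set_option autoImplicit false
set_option linter.unusedSectionVars false
set_option linter.style.haveILetI false
set_option maxRecDepth 100000

namespace CfsgLib.CharP.PMin.UThree

open Subgroup CfsgLib.Chev.G2Two.Unitary

/-- The two generators of the Sylow subgroup. -/
def gk : Bool → Fin 38
  | false => 1
  | true => 33

/-- The words of the elements of the Sylow subgroup. -/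
def wdTab : List (List Bool) :=
  ([[], [0], [1], [1, 0], [0, 1], [1, 1], [0, 1, 0], [1, 1, 0], [1, 0, 1], [0, 1, 1], [1, 1, 1],
    [1, 0, 1, 0], [0, 1, 1, 0], [1, 1, 1, 0], [1, 1, 0, 1], [1, 0, 1, 1], [0, 1, 1, 1],
    [1, 1, 0, 1, 0], [1, 0, 1, 1, 0], [0, 1, 1, 1, 0], [1, 1, 1, 0, 1], [1, 1, 0, 1, 1],
    [1, 0, 1, 1, 1], [1, 1, 1, 0, 1, 0], [1, 1, 0, 1, 1, 0], [1, 0, 1, 1, 1, 0], [1, 1, 1, 0, 1, 1],
    [1, 1, 0, 1, 1, 1], [1, 1, 1, 0, 1, 1, 0], [1, 1, 0, 1, 1, 1, 0], [1, 1, 1, 0, 1, 1, 1],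
    [1, 1, 1, 0, 1, 1, 1, 0]] : List (List ℕ)).map fun l => l.map fun k => k == 1

/-- Evaluation of a word. -/
def ev (l : List Bool) (x : Fin 63) : Fin 63 := l.foldr (fun k y => cp (gk k) y) x

/-- An element of the Sylow subgroup. -/
def uP (i : Fin 32) : Fin 63 → Fin 63 := ev (wdTab.getD i.val [])

/-- The index of the central involution. -/
def iz : Fin 32 := 24

/-- The elements of the invariant four-group. -/
def four : List (Fin 32) := [0, 5, 12, 24]

theorem chk_left : ∀ k : Bool, ∀ i : Fin 32, ∃ j : Fin 32, ∀ x, cp (gk k) (uP i x) = uP j x := by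
  decide +kernel

theorem chk_left' : ∀ k : Bool, ∀ i : Fin 32, ∃ j : Fin 32, ∀ x, cp (gk k) (uP j x) = uP i x := by
  decide +kernel

theorem chk_inj : ∀ i j : Fin 32, (∀ x, uP i x = uP j x) → i = j := by decide +kernel

theorem chk_z : (∃ x, uP iz x ≠ x) ∧ (∀ x, uP iz (uP iz x) = x) ∧
    ∀ k : Bool, ∀ x, cp (gk k) (uP iz x) = uP iz (cp (gk k) x) := by decide +kernel

theorem chk_unique : ∀ i : Fin 32, (∀ x, uP i (uP i x) = x) →
    (∀ k : Bool, ∀ x, cp (gk k) (uP i x) = uP i (cp (gk k) x)) → i = 0 ∨ i = iz := by decide +kernel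

theorem chk_four : ∀ i : Fin 32, (∀ x, uP i (uP i x) = x) →
    (∀ k : Bool, (∀ x, cp (gk k) (uP i x) = uP i (cp (gk k) x)) ∨
      ∀ x, cp (gk k) (uP i x) = uP i (uP iz (cp (gk k) x))) → i ∈ four := by decide +kernel

theorem chk_four' : ∀ i ∈ four, (∀ x, uP i (uP i x) = x) ∧
    ∀ u : Fin 32, (∀ x, uP u (uP i x) = uP i (uP u x)) ∨
      ∀ x, uP u (uP i x) = uP i (uP iz (uP u x)) := by decide +kernel

theorem chk_g : (∀ x, cp 30 (uP iz x) = uP iz (cp 30 x)) ∧
    (∀ i ∈ four, ∃ j ∈ four, ∀ x, cp 24 (uP i x) = uP j (cp 24 x)) ∧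
    ∀ i : Fin 32, ∃ x, cp 24 (cp 30 (cp 24 (uP iz x))) ≠ uP i (cp 24 (cp 30 (cp 24 x))) := by
  decide +kernel

theorem excl_psu33 {F : Type*} [Field F] [Fintype F] (hF : Fintype.card F = 9)
    (hfull : Full 2 ↥(Cfsg.SU 3 F 3)) : Excl 2 ↥(Cfsg.SU 3 F 3) := by
  classical
  haveI : Fact (Nat.Prime 2) := ⟨Nat.prime_two⟩
  obtain ⟨φ⟩ := CfsgLib.Rec.ThreeSpectrum.exists_ringEquiv_K9 hF
  haveI := isSimple (K := F) hF
  have hG := card_eq (K := F) hF
  choose c hc using cert_mem φ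
  have ext' : ∀ g h : ↥(Cfsg.SU 3 F 3), (∀ x, linePerm φ g x = linePerm φ h x) → g = h :=
    fun g h e => linePerm_inj φ hF (Equiv.ext e)
  let wE : List Bool → ↥(Cfsg.SU 3 F 3) := fun l => (l.map fun k => c (gk k)).prod
  have hw : ∀ l x, linePerm φ (wE l) x = ev l x := by
    intro l x
    induction l with
    | nil => simp [wE, ev]
    | cons k l ih =>
      show linePerm φ (c (gk k) * wE l) x = cp (gk k) (ev l x)
      rw [map_mul, Equiv.Perm.mul_apply, ih, hc]
  let u : Fin 32 → ↥(Cfsg.SU 3 F 3) := fun i => wE (wdTab.getD i.val [])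
  have hu : ∀ i x, linePerm φ (u i) x = uP i x := fun i x => hw _ x
  set A : Subgroup ↥(Cfsg.SU 3 F 3) := Subgroup.closure (Set.range fun k => c (gk k))
  have huA : ∀ i, u i ∈ A := fun i => list_prod_mem fun y hy => by
    obtain ⟨k, -, rfl⟩ := List.mem_map.1 hy
    exact Subgroup.subset_closure ⟨k, rfl⟩
  have hAu : ∀ g ∈ A, ∃ i, g = u i := by
    intro g hg
    induction hg using Subgroup.closure_induction_left with
    | one => exact ⟨0, ext' _ _ fun x => by rw [hu, map_one]; rfl⟩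
    | mul_left y hy z hz ih =>
      obtain ⟨k, rfl⟩ := hy
      obtain ⟨i, rfl⟩ := ih
      obtain ⟨j, hj⟩ := chk_left k i
      exact ⟨j, ext' _ _ fun x => by rw [map_mul, Equiv.Perm.mul_apply, hu, hu, hc]; exact hj x⟩
    | inv_mul_cancel y hy z hz ih =>
      obtain ⟨k, rfl⟩ := hy
      obtain ⟨i, rfl⟩ := ih
      obtain ⟨j, hj⟩ := chk_left' k i
      refine ⟨j, inv_mul_eq_iff_eq_mul.2 (ext' _ _ fun x => ?_)⟩
      rw [map_mul, Equiv.Perm.mul_apply, hu, hu, hc]; exact (hj x).symm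
  have huinj : Function.Injective u := fun i j e => chk_inj i j fun x => by rw [← hu, ← hu, e]
  have hA : Nat.card A = 32 := by
    rw [← Nat.card_eq_of_bijective (fun i : Fin 32 => (⟨u i, huA i⟩ : A))
      ⟨fun i j e => huinj (congrArg Subtype.val e), fun ⟨g, hg⟩ => by
        obtain ⟨i, rfl⟩ := hAu g hg
        exact ⟨i, rfl⟩⟩, Nat.card_fin]
  obtain ⟨U, hU⟩ := (IsPGroup.of_card (p := 2) (n := 5) (G := A) (by rw [hA]; norm_num)).exists_le_sylow
  have hUc : Nat.card (U : Subgroup ↥(Cfsg.SU 3 F 3)) = 32 := by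
    simpa using CfsgLib.Small.card_sylow_eq (p := 2) 5 189 (by rw [hG]; norm_num) (by norm_num) U
  have hUA : A = (U : Subgroup ↥(Cfsg.SU 3 F 3)) := eq_of_le_of_card_ge hU (by rw [hA, hUc])
  set z := u iz
  obtain ⟨hz1, hz2, hz3⟩ := chk_z
  have hzc : ∀ g ∈ A, g * z = z * g := by
    intro g hg
    induction hg using Subgroup.closure_induction with
    | mem y hy =>
      obtain ⟨k, rfl⟩ := hy
      exact ext' _ _ fun x => by
        rw [map_mul, map_mul, Equiv.Perm.mul_apply, Equiv.Perm.mul_apply, hu, hu, hc, hc]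
        exact hz3 k x
    | one => rw [one_mul, mul_one]
    | mul a b _ _ ha hb => rw [mul_assoc, hb, ← mul_assoc, ha, mul_assoc]
    | inv a _ ha => exact (Commute.inv_left ha).eq
  have hzz : z * z = 1 := ext' _ _ fun x => by
    rw [map_mul, Equiv.Perm.mul_apply, hu, hu, map_one]; exact hz2 x
  have hzne : z ≠ 1 := fun e => by
    obtain ⟨x, hx⟩ := hz1
    exact hx (by rw [← hu]; show linePerm φ z x = x; rw [e, map_one]; rfl)
  have hnc : ¬ IsMulCommutative ↥(Cfsg.SU 3 F 3) :=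
    CfsgLib.Small.not_isMulCommutative_of_card (by rw [hG]; norm_num)
  refine excl_of_central hfull U (hUA ▸ huA iz) hzne (fun g hg => hzc g (hUA.symm ▸ hg))
    (by rw [pow_two]; exact hzz) (CfsgLib.Small.center_eq_bot hnc) (fun y hy hy2 hyc => ?_)
    (S := {y | y ∈ (U : Subgroup ↥(Cfsg.SU 3 F 3)) ∧ y * y = 1 ∧
      ∀ g ∈ (U : Subgroup ↥(Cfsg.SU 3 F 3)), g * y = y * g ∨ g * y = y * z * g})
    (fun y hy => hy.1) ⟨hUA ▸ huA iz, hzz, fun g hg => Or.inl (hzc g (hUA.symm ▸ hg))⟩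
    (fun g hg y hy => ?_) (fun a ha haz y hy => ?_) (g₁ := c 30) (g₂ := c 24) ?_ ?_
    (w := c 24 * c 30 * c 24) ?_ ?_
  · obtain ⟨i, rfl⟩ := hAu y (hUA.symm ▸ hy)
    rcases chk_unique i (fun x => by
        rw [← hu, ← hu, ← Equiv.Perm.mul_apply, ← map_mul, ← pow_two, hy2, map_one]; rfl)
      (fun k x => by
        rw [← hu, ← hu, ← hc, ← hc, ← Equiv.Perm.mul_apply, ← Equiv.Perm.mul_apply, ← map_mul, ← map_mul,
          hyc _ (hUA ▸ Subgroup.subset_closure ⟨k, rfl⟩)]) with rfl | rfl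
    · rw [show u 0 = 1 from ext' _ _ fun x => by rw [hu, map_one]; rfl]
      exact one_mem _
    · exact mem_zpowers _
  · obtain ⟨hyU, hy2, hyc⟩ := hy
    rcases hyc g hg with e | e
    · rw [e, mul_inv_cancel_right]; exact ⟨hyU, hy2, hyc⟩
    · rw [e, mul_inv_cancel_right]
      have hyz : Commute y z := hzc y (hUA.symm ▸ hyU)
      refine ⟨mul_mem hyU (hUA ▸ huA iz), ?_, fun h hh => ?_⟩
      · rw [mul_assoc, ← mul_assoc z, ← hyz.eq, mul_assoc y z, hzz, mul_one, hy2]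
      · have hhz : h * z = z * h := hzc h (hUA.symm ▸ hh)
        rcases hyc h hh with e' | e'
        · exact Or.inl (by rw [← mul_assoc, e', mul_assoc, hhz, ← mul_assoc])
        · exact Or.inr (by rw [← mul_assoc, e', mul_assoc, hhz, ← mul_assoc])
  · obtain ⟨hyU, hy2, hyc⟩ := hy
    have haz' : a z = z := by
      obtain ⟨i, hi⟩ := haz
      have h2 : z ^ (2 : ℤ) = 1 := by rw [show (2 : ℤ) = ((2 : ℕ) : ℤ) from rfl, zpow_natCast, pow_two, hzz]
      rcases Int.even_or_odd i with ⟨j, rfl⟩ | ⟨j, rfl⟩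
      · exfalso
        refine hzne (a.injective ?_)
        rw [map_one, ← hi]
        show z ^ (j + j) = 1
        rw [← two_mul, _root_.zpow_mul, h2, _root_.one_zpow]
      · rw [← hi]
        show z ^ (2 * j + 1) = z
        rw [zpow_add, _root_.zpow_mul, h2, _root_.one_zpow, one_mul, zpow_one]
    refine ⟨ha y hyU, by rw [← map_mul, hy2, map_one], fun g hg => ?_⟩
    have haU : (U : Subgroup ↥(Cfsg.SU 3 F 3)).map a.toMonoidHom = U :=
      eq_of_le_of_card_ge (map_le_iff_le_comap.2 fun x hx => ha x hx)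
        (by rw [Subgroup.card_map_of_injective a.injective])
    obtain ⟨g', hg', rfl⟩ := haU.ge hg
    show a g' * a y = a y * a g' ∨ a g' * a y = a y * z * a g'
    rcases hyc g' hg' with e | e
    · exact Or.inl (by rw [← map_mul, e, map_mul])
    · refine Or.inr ?_
      conv_rhs => rw [← haz']
      rw [← map_mul, e, map_mul, map_mul]
  · exact ext' _ _ fun x => by
      rw [map_mul, map_mul, Equiv.Perm.mul_apply, Equiv.Perm.mul_apply, hu, hu, hc, hc]
      exact chk_g.1 x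
  · rintro y ⟨hyU, hy2, hyc⟩
    obtain ⟨i, rfl⟩ := hAu y (hUA.symm ▸ hyU)
    have hi := chk_four i (fun x => by
        rw [← hu, ← hu, ← Equiv.Perm.mul_apply, ← map_mul, hy2, map_one]; rfl) fun k => by
      rcases hyc (c (gk k)) (hUA ▸ (Subgroup.subset_closure ⟨k, rfl⟩ : c (gk k) ∈ A)) with e | e
      · left; intro x
        rw [← hu, ← hu, ← hc, ← hc, ← Equiv.Perm.mul_apply, ← Equiv.Perm.mul_apply, ← map_mul, ← map_mul, e]
      · right; intro x
        rw [← hu, ← hu iz, ← hu, ← hc, ← hc, ← Equiv.Perm.mul_apply, ← Equiv.Perm.mul_apply (linePerm φ (u iz)),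
          ← Equiv.Perm.mul_apply, ← map_mul, ← map_mul, ← map_mul, e, ← mul_assoc]
    obtain ⟨j, hj, he⟩ := chk_g.2.1 i hi
    have e : c 24 * u i * (c 24)⁻¹ = u j := by
      rw [mul_inv_eq_iff_eq_mul]
      exact ext' _ _ fun x => by
        rw [map_mul, map_mul, Equiv.Perm.mul_apply, Equiv.Perm.mul_apply, hu, hu, hc, hc]
        exact he x
    rw [e]
    obtain ⟨hj2, hjc⟩ := chk_four' j hj
    refine ⟨hUA ▸ huA j, ext' _ _ fun x => by rw [map_mul, Equiv.Perm.mul_apply, hu, hu, map_one]; exact hj2 x,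
      fun g hg => ?_⟩
    obtain ⟨k, rfl⟩ := hAu g (hUA.symm ▸ hg)
    rcases hjc k with e | e
    · exact Or.inl (ext' _ _ fun x => by simp only [map_mul, Equiv.Perm.mul_apply, hu]; exact e x)
    · exact Or.inr (ext' _ _ fun x => by simp only [map_mul, Equiv.Perm.mul_apply, z, hu]; exact e x)
  · exact mul_mem (mul_mem (Subgroup.subset_closure (by simp)) (Subgroup.subset_closure (by simp)))
      (Subgroup.subset_closure (by simp))
  · intro hmem
    obtain ⟨i, hi⟩ := hAu _ (hUA.symm ▸ hmem)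
    rw [mul_inv_eq_iff_eq_mul] at hi
    obtain ⟨x, hx⟩ := chk_g.2.2 i
    apply hx
    have := congrArg (fun g => linePerm φ g x) hi
    simpa only [map_mul, Equiv.Perm.mul_apply, hu, hc, z] using this

end CfsgLib.CharP.PMin.UThree
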