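import Cfsg.Agent.Lib.CharP.PMin.Classical
import Cfsg.Agent.Lib.CharP.PMin.Linear
import Cfsg.Agent.Lib.CharP.PMin.Lie
import Cfsg.Agent.Lib.CharP.PMin.Tits
import Cfsg.Agent.Lib.CharP.PMin.UThree
import Cfsg.Agent.Lib.CharP.PMin.AltSix
import Cfsg.Agent.Lib.CharP.Overgroup.Main
import Cfsg.Prelude.Def_AlmostLie

/-!
In characteristic `p` every simple group of Lie type has either the exclusion property or the Borel
property with the rank of the short list.
-/

set_option autoImplicit false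
set_option linter.style.haveILetI false
set_option linter.unusedSectionVars false
set_option maxRecDepth 100000

namespace CfsgLib.CharP.PMin

open Cfsg CfsgLib.Chev CfsgLib.Classical CfsgLib.CharsMore.St CfsgLib.Geometry

/-- The groups of rank two on the short list. -/
def Short (G : Type*) [Group G] : Prop :=
  (∃ (F : Type) (_ : Field F) (_ : Fintype F) (_ : CharP F 2),
      Nonempty (G ≃* Matrix.ProjectiveSpecialLinearGroup (Fin 3) F)) ∨
    (∃ (F : Type) (_ : Field F) (_ : Fintype F) (_ : CharP F 2),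
      4 ≤ Fintype.card F ∧ Nonempty (G ≃* Cfsg.PSp 2 F)) ∨
    Nonempty (G ≃* ↥(alternatingGroup (Fin 6)))

/-- The alternatives. -/
def Dicho (p : ℕ) (G : Type*) [Group G] : Prop :=
  IsSimpleGroup G ∧ (Excl p G ∨
    ∃ n, 0 < n ∧ Flat p n G ∧ (IsLieRankOneChar p G ∨ (2 ≤ n ∧ p = 2 ∧ Short G)))

section

variable {F : Type*} [Field F] [Finite F] {ι : Type} [Fintype ι] [DecidableEq ι]

theorem simple_pomega {Q : QuadraticForm F (ι → F)} (hQ : (QuadraticMap.polarBilin Q).Nondegenerate)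
    (h5 : 5 ≤ Fintype.card ι) {Q' : (ι → F) → F} (e : ⇑Q = Q') : IsSimpleGroup (Cfsg.POmega F Q') := by
  subst e
  haveI := Fintype.ofFinite F
  haveI : Nonempty ι := Fintype.card_pos_iff.1 (by omega)
  exact isSimpleGroup_pOmega Q hQ (by omega)

end

theorem dicho_of_excl {G H : Type*} [Group G] [Finite G] [Group H] [Finite H] {p : ℕ} [Fact p.Prime]
    (e : G ≃* H) (hS : IsSimpleGroup H) (h : Excl p H) : Dicho p G := by
  haveI := hS
  exact ⟨MulEquiv.isSimpleGroup e, Or.inl (h.of_mulEquiv e.symm)⟩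

theorem dicho_of_flat {G H : Type*} [Group G] [Finite G] [Group H] [Finite H] {p : ℕ} [Fact p.Prime]
    (e : G ≃* H) (hS : IsSimpleGroup H) {n : ℕ} (hn : 0 < n) (h : Flat p n H)
    (hcase : IsLieRankOneChar p G ∨ (2 ≤ n ∧ p = 2 ∧ Short G)) : Dicho p G := by
  haveI := hS
  exact ⟨MulEquiv.isSimpleGroup e, Or.inr ⟨n, hn, h.of_mulEquiv e.symm, hcase⟩⟩

theorem dicho_exceptional {G : Type*} [Group G] [Finite G] {p : ℕ} [Fact p.Prime]
    (h : IsExceptionalChevChar p G) : Dicho p G := by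
  obtain ⟨F, _, _, _, h⟩ := h
  haveI : ∀ D : Lie.ChevalleyDatum, Finite (Matrix.GeneralLinearGroup D.Idx F) := fun D => finite_GL
  rcases h with ⟨hc, ⟨e⟩⟩ | ⟨⟨e⟩⟩ | ⟨⟨e⟩⟩ | ⟨⟨e⟩⟩ | ⟨⟨e⟩⟩
  · have hF : ∃ a : F, a ≠ 0 ∧ a ≠ 1 := by
      classical
      by_contra hcon
      push Not at hcon
      have h1 : (Finset.univ : Finset F).card ≤ ({0, 1} : Finset F).card := by
        refine Finset.card_le_card fun a _ => ?_
        by_cases ha : a = 0
        · simp [ha]
        · simp [hcon a ha]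
      have h2 := Finset.card_le_two (a := (0 : F)) (b := 1)
      rw [Finset.card_univ] at h1
      omega
    haveI : IsSimpleGroup ↥(Lie.chevG2.group F) := (simple_group stdG2 (by decide +kernel) conn_G2
      (perfect_of_perfB stdG2 perfB_G2 hF)).1
    refine dicho_of_excl e inferInstance ?_
    by_cases hp : p = 2
    · subst hp
      exact excl_chev_graph stdG2 CfsgLib.KnownB.ChevAutThm.autData_G2 (by decide +kernel)
        (CfsgLib.KnownB.ChevAutThm.range_eq_one_of_char stdG2 CfsgLib.KnownB.ChevAutThm.autData_G2 (q := 3)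
          (by omega) (by rw [ringChar.eq F 2]; omega) (by decide +kernel))
    · exact excl_chev_two stdG2 (by decide +kernel) hp
  · haveI : IsSimpleGroup ↥(Lie.chevF4.group F) := (simple_group stdF4 (by decide +kernel) conn_F4
      (perfect_of_perfA stdF4 perfA_F4)).1
    obtain ⟨i, k, hik⟩ : ∃ i k, valency Lie.chevF4 auxF4 (fun i : Fin Lie.chevF4.rank => [(i : ℕ)]) i ≠
        valency Lie.chevF4 auxF4 (fun i : Fin Lie.chevF4.rank => [(i : ℕ)]) k := by decide +kernel
    exact dicho_of_excl e inferInstance (excl_chev stdF4 hik)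
  · haveI : IsSimpleGroup ↥(Lie.chevE6.group F) := (simple_group stdE6 (by decide +kernel) conn_E6
      (perfect_of_perfA stdE6 perfA_E6)).1
    obtain ⟨i, k, hik⟩ : ∃ i k, valency Lie.chevE6 auxE6 (fun i : Fin Lie.chevE6.rank => [(i : ℕ)]) i ≠
        valency Lie.chevE6 auxE6 (fun i : Fin Lie.chevE6.rank => [(i : ℕ)]) k := by decide +kernel
    exact dicho_of_excl e inferInstance (excl_chev stdE6 hik)
  · haveI : IsSimpleGroup ↥(Lie.chevE7.group F) := (simple_group stdE7 (by decide +kernel) conn_E7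
      (perfect_of_perfA stdE7 perfA_E7)).1
    obtain ⟨i, k, hik⟩ : ∃ i k, valency Lie.chevE7 auxE7 (fun i : Fin Lie.chevE7.rank => [(i : ℕ)]) i ≠
        valency Lie.chevE7 auxE7 (fun i : Fin Lie.chevE7.rank => [(i : ℕ)]) k := by decide +kernel
    exact dicho_of_excl e inferInstance (excl_chev stdE7 hik)
  · haveI : IsSimpleGroup ↥(Lie.chevE8.group F) := (simple_group stdE8 (by decide +kernel) conn_E8
      (perfect_of_perfA stdE8 perfA_E8)).1
    obtain ⟨i, k, hik⟩ : ∃ i k, valency Lie.chevE8 auxE8 (fun i : Fin Lie.chevE8.rank => [(i : ℕ)]) i ≠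
        valency Lie.chevE8 auxE8 (fun i : Fin Lie.chevE8.rank => [(i : ℕ)]) k := by decide +kernel
    exact dicho_of_excl e inferInstance (excl_chev stdE8 hik)

theorem dicho_twisted {G : Type*} [Group G] [Finite G] {p : ℕ} [Fact p.Prime]
    (h : IsTwistedE6D4Char p G) : Dicho p G := by
  obtain ⟨K, _, _, _, q, hq, h⟩ := h
  haveI : ∀ D : Lie.ChevalleyDatum, Finite (Matrix.GeneralLinearGroup D.Idx K) := fun D => finite_GL
  rcases h with ⟨hK, ⟨e⟩⟩ | ⟨hK, ⟨e⟩⟩
  · obtain ⟨σ, hσ⟩ := exists_powHom hq two_ne_zero hK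
    haveI := ((E62.split hσ hK).simple (E62.marked hσ hK) E62.top (by decide) (E62.perfect hσ hK)).1
    have heq := E62.twisted_eq_fix hσ hK
    obtain ⟨i, k, hik⟩ : ∃ i k, valency Lie.chevE6 auxE6 (fun i : Fin foldE62.num => foldE62.w i) i ≠
        valency Lie.chevE6 auxE6 (fun i : Fin foldE62.num => foldE62.w i) k := by decide +kernel
    refine dicho_of_excl (e.trans (MulEquiv.subgroupCongr heq)) inferInstance ?_
    exact excl_twist_deg (E62.tw σ) (E62.split hσ hK) hik
  · obtain ⟨σ, hσ⟩ := exists_powHom hq three_ne_zero hK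
    haveI := ((D43.split hσ hK).simple (D43.marked hσ hK) D43.top (by decide) (D43.perfect hσ hK)).1
    refine dicho_of_excl (e.trans (MulEquiv.subgroupCongr (D43.twisted_eq_fix hσ hK))) inferInstance ?_
    refine excl_twist_card (D43.tw σ) (D43.split hσ hK) (by decide) ?_
    have hq2 := D43.two_le hK
    rw [D43.class_card hσ hK hq2 0 (by decide), D43.class_card hσ hK hq2 1 (by decide)]
    intro he
    simp only [List.getD_cons_zero, List.getD_cons_succ] at he
    exact absurd (Nat.pow_right_injective hq2 he) (by norm_num)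

theorem dicho_lieTypeChar {G : Type*} [Group G] [Finite G] {p : ℕ} [Fact p.Prime]
    (hG : IsLieTypeChar p G) : Dicho p G := by
  rcases hG with h | h | h | h | h | h | h | h | h | h | h
  · obtain ⟨F, _, _, _, n, hn, h4, ⟨e⟩⟩ := h
    have h4' : n = 2 → 4 ≤ Nat.card F := fun hh => by rw [Nat.card_eq_fintype_card]; exact h4 hh
    have hS := isSimpleGroup_PSL_fin (F := F) n hn h4'
    rcases (show n = 2 ∨ n = 3 ∨ 4 ≤ n by omega) with rfl | rfl | hn4
    · exact dicho_of_flat e hS one_pos (flat_psl (p := p) hn h4')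
        (Or.inl (Or.inl ⟨F, inferInstance, inferInstance, inferInstance, h4 rfl, ⟨e⟩⟩))
    · by_cases hp : p = 2
      · subst hp
        exact dicho_of_flat e hS two_pos (flat_psl (p := 2) hn h4')
          (Or.inr ⟨le_rfl, rfl, Or.inl ⟨F, inferInstance, inferInstance, inferInstance, ⟨e⟩⟩⟩)
      · exact dicho_of_excl e hS (excl_psl_three hp)
    · exact dicho_of_excl e hS (excl_psl hn4)
  · obtain ⟨F, _, _, _, m, hm, h3, ⟨e⟩⟩ := h
    have hS : IsSimpleGroup (Cfsg.PSp m F) := by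
      refine isSimpleGroup_psp (by simpa using hm) (sp_commutator_eq_top' ?_)
      rw [Fintype.card_fin, Nat.card_eq_fintype_card]
      omega
    by_cases hmp : m = 2 ∧ p = 2
    · obtain ⟨rfl, rfl⟩ := hmp
      have h4 : 4 ≤ Fintype.card F := by
        obtain ⟨k, -, hk⟩ := FiniteField.card F 2
        have := h3 rfl
        rw [hk] at this ⊢
        calc 4 = 2 ^ 2 := rfl
          _ ≤ 2 ^ (k : ℕ) := Nat.pow_le_pow_right two_pos (by
            by_contra hh
            have h1 : 2 ^ (k : ℕ) ≤ 2 ^ 1 := Nat.pow_le_pow_right two_pos (by omega)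
            omega)
      exact dicho_of_flat e hS two_pos (flat_psp_two hS)
        (Or.inr ⟨le_rfl, rfl, Or.inr (Or.inl ⟨F, inferInstance, inferInstance, inferInstance, h4, ⟨e⟩⟩)⟩)
    · exact dicho_of_excl e hS (excl_psp hm hS fun h2 hp => hmp ⟨h2, hp⟩)
  · obtain ⟨F, _, _, _, n, q, hq, hn, h32, ⟨e⟩⟩ := h
    have hF : Nat.card F = q ^ 2 := by rw [Nat.card_eq_fintype_card, hq]
    have hq3 : n = 3 → 3 ≤ q := fun hn3 => by
      have := Fintype.one_lt_card (α := F)
      rw [hq] at this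
      by_contra hcon
      push Not at hcon
      interval_cases q <;> first | omega | exact h32 ⟨hn3, rfl⟩
    have hS := Unitary.isSimpleGroup_PSU hF hn hq3
    rcases (show n = 3 ∨ 4 ≤ n by omega) with rfl | hn4
    · refine dicho_of_flat e hS one_pos (flat_psu_three hF (hq3 rfl)) (Or.inl (Or.inr (Or.inl
        ⟨F, inferInstance, inferInstance, inferInstance, q, hq, ?_, ⟨e⟩⟩)))
      have := hq3 rfl
      omega
    · exact dicho_of_excl e hS (excl_psu hF hn4)
  · obtain ⟨F, _, _, _, m, hm, hodd, ⟨e⟩⟩ := h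
    have h2 : (2 : F) ≠ 0 := by
      refine Ring.two_ne_zero fun h2 => ?_
      have := FiniteField.even_card_of_char_two (F := F) h2
      rw [Nat.odd_iff] at hodd
      omega
    exact dicho_of_excl e (simple_pomega (nondegenerate_odd h2 m) (by simp; omega) (coe_matQuad_odd m))
      (excl_pomega_odd h2 hm)
  · obtain ⟨F, _, _, _, m, hm, ⟨e⟩⟩ := h
    exact dicho_of_excl e (simple_pomega (nondegenerate_plus m) (by simp; omega) (coe_matQuad_plus m))
      (excl_pomega_plus hm)
  · obtain ⟨F, _, _, _, m, a, b, hm, hab, ⟨e⟩⟩ := h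
    exact dicho_of_excl e
      (simple_pomega (nondegenerate_minus (m - 1) hab) (by simp; omega) (coe_matQuad_minus (m - 1) a b))
      (excl_pomega_minus (by omega) hab)
  · exact dicho_exceptional h
  · exact dicho_twisted h
  · obtain ⟨rfl, K, _, _, m, hm, hK, ⟨e⟩⟩ := h
    have hS := CfsgLib.KnownA.Suzuki.isSimpleGroup (CfsgLib.KnownA.Suzuki.titsField_of_card hK) (by
      rw [Nat.card_eq_fintype_card, hK]
      exact le_trans (by norm_num) (Nat.pow_le_pow_right two_pos (show 3 ≤ 2 * m + 1 by omega)))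
    exact dicho_of_flat e hS one_pos (flat_sz hm hK)
      (Or.inl (Or.inr (Or.inr (Or.inl ⟨rfl, K, _, _, m, hm, hK, ⟨e⟩⟩))))
  · obtain ⟨rfl, K, _, _, m, hm, hK, ⟨e⟩⟩ := h
    haveI : CharP K 2 := charP_of_card_eq_prime_pow (f := 2 * m + 1) hK
    haveI : Finite (Matrix.GeneralLinearGroup Lie.chevF4.Idx K) := finite_GL
    obtain ⟨-, σ, hσ, hi⟩ := F42.exists_sigma hK
    have h4 : 4 ≤ Fintype.card K := by
      rw [hK]
      calc 4 = 2 ^ 2 := rfl
        _ ≤ 2 ^ (2 * m + 1) := Nat.pow_le_pow_right two_pos (by omega)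
    haveI := ((F42.split hi).simple (F42.marked hi) F42.top (by decide) (F42.perfect hσ hi h4)).1
    refine dicho_of_excl (e.trans (MulEquiv.subgroupCongr (F42.twisted_eq_fix hσ hi))) inferInstance ?_
    refine excl_twist_card (F42.tw σ) (F42.split hi) (by decide) ?_
    rw [(F42.class0 hi).1, (F42.class1 hi).1]
    nlinarith
  · obtain ⟨rfl, K, _, _, m, hm, hK, ⟨e⟩⟩ := h
    haveI : CharP K 3 := charP_of_card_eq_prime_pow (f := 2 * m + 1) hK
    haveI : Finite (Matrix.GeneralLinearGroup Lie.chevG2.Idx K) := finite_GL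
    obtain ⟨-, h4, σ, hσ, hi⟩ := G22.exists_sigma hK
    obtain ⟨y, hy⟩ := G22.exists_outside hm hK
    haveI := ((G22.split hi).simple (G22.marked hi) G22.top (by decide) (G22.perfect hσ hi h4 hy)).1
    exact dicho_of_flat (e.trans (MulEquiv.subgroupCongr (G22.twisted_eq_fix hσ hi h4))) inferInstance
      one_pos (flat_twist_one (G22.tw σ) (G22.split hi) (by decide))
      (Or.inl (Or.inr (Or.inr (Or.inr ⟨rfl, Or.inl ⟨K, _, _, m, hm, hK, ⟨e⟩⟩⟩))))

theorem isSimpleGroup_of_equiv {G : Type*} [Group G] (H : Type) [Group H] (hS : IsSimpleGroup H)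
    (e : G ≃* H) : IsSimpleGroup G :=
  MulEquiv.isSimpleGroup e

theorem dicho_tits {G : Type*} [Group G] [Finite G] [Fact (Nat.Prime 2)] (e : G ≃* Lie.TitsGroup) :
    Dicho 2 G := by
  haveI : Finite Lie.TitsGroup := Finite.of_equiv G e.toEquiv
  exact ⟨isSimpleGroup_of_equiv Lie.TitsGroup CfsgLib.Chev.Tits2.tits_facts.2.1 e,
    Or.inl (Excl.of_mulEquiv excl_tits e.symm)⟩

theorem dicho_chevSimple {G : Type*} [Group G] [Finite G] {p : ℕ} [Fact p.Prime]
    (hG : IsChevSimple p G) : Dicho p G := by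
  rcases hG with h | ⟨rfl, h⟩ | ⟨rfl, F, _, _, hF, ⟨e⟩⟩
  · exact dicho_lieTypeChar h
  · rcases h with ⟨⟨e⟩⟩ | ⟨F, _, _, hF, ⟨e⟩⟩ | ⟨⟨e⟩⟩
    · exact dicho_of_flat e (alternatingGroup.isSimpleGroup (by simp)) two_pos AltSix.flat_alt_six
        (Or.inr ⟨le_rfl, rfl, Or.inr (Or.inr ⟨e⟩)⟩)
    · obtain ⟨f⟩ := CfsgLib.Chev.G2Two.Unitary.nonempty_equiv_PSU hF
      exact dicho_of_excl (e.trans f.symm) (CfsgLib.Chev.G2Two.Unitary.isSimple hF)
        (UThree.excl_psu33 hF ((SmallCases.full_psu33 hF).of_mulEquiv f.symm))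
    · exact dicho_tits e
  · have hF' : Nat.card F = 8 := by rw [Nat.card_eq_fintype_card, hF]
    haveI := isSimpleGroup_PSL_fin (F := F) 2 le_rfl (fun _ => by rw [hF']; norm_num)
    have h504 : Nat.card (Matrix.ProjectiveSpecialLinearGroup (Fin 2) F) = 504 := by
      rw [card_PSL_two, hF']; norm_num
    exact dicho_of_flat e inferInstance one_pos (flat_order504 h504)
      (Or.inl (Or.inr (Or.inr (Or.inr ⟨rfl, Or.inr ⟨F, _, _, hF, ⟨e⟩⟩⟩))))

end CfsgLib.CharP.PMin
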