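import Cfsg.Agent.Lib.CharP.PMin.Basic
import Cfsg.Agent.Lib.CharP.Overgroup.Polar
import Cfsg.Agent.Lib.CharsMore.St.Steinberg

/-!
The maximal overgroups of the unipotent subgroup of a group with root elements on a polar space.
-/

set_option autoImplicit false
set_option linter.unusedSectionVars false
set_option linter.style.haveILetI false

namespace CfsgLib.CharP.PMin

open CfsgLib.CharsMore.St CfsgLib.Base

universe u v w

variable {F : Type u} [Field F] {V : Type v} [AddCommGroup V] [Module F V] {m : ℕ}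
  {Q : Polar F V m} {p : ℕ} {G : Type w} [Group G] (A : Q.Act p G) [Finite G]
  [FiniteDimensional F V]

/-- The stabiliser of a subspace. -/
def stabS (W : Submodule F V) : Subgroup G where
  carrier := {g | ∀ v ∈ W, A.ρ g v ∈ W}
  one_mem' v hv := by rw [A.ρ_one]; exact hv
  mul_mem' {g k} hg hk v hv := by rw [A.ρ_mul]; exact hg _ (hk v hv)
  inv_mem' {g} hg v hv := by
    have h : ∀ n : ℕ, ∀ v ∈ W, A.ρ (g ^ n) v ∈ W := by
      intro n
      induction n with
      | zero => intro v hv; rw [pow_zero, A.ρ_one]; exact hv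
      | succ n ih => intro v hv; rw [pow_succ, A.ρ_mul]; exact ih _ (hg v hv)
    have he : g⁻¹ = g ^ (orderOf g - 1) := inv_eq_of_mul_eq_one_right (by
      rw [← pow_succ', Nat.sub_add_cancel (orderOf_pos g), pow_orderOf_eq_one])
    rw [he]
    exact h _ v hv

theorem mem_stabS {W : Submodule F V} {g : G} : g ∈ stabS A W ↔ ∀ v ∈ W, A.ρ g v ∈ W := Iff.rfl

theorem mem_stabS_span {S : Set V} {g : G} (h : ∀ v ∈ S, A.ρ g v ∈ Submodule.span F S) :
    g ∈ stabS A (Submodule.span F S) := by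
  intro v hv
  induction hv using Submodule.span_induction with
  | mem v hv => exact h v hv
  | zero => simp
  | add a b _ _ ha hb => rw [map_add]; exact add_mem ha hb
  | smul c a _ ha => rw [map_smul]; exact Submodule.smul_mem _ c ha

variable (Q) in
/-- The span of the first `n` vectors of the frame. -/
def pre (n : ℕ) : Submodule F V := Submodule.span F (Q.e '' {j | (j : ℕ) < n})

theorem e_mem_pre {n : ℕ} {j : Fin m} (h : (j : ℕ) < n) : Q.e j ∈ pre Q n :=
  Submodule.subset_span ⟨j, h, rfl⟩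

theorem pre_mono {a b : ℕ} (h : a ≤ b) : pre Q a ≤ pre Q b :=
  Submodule.span_mono (Set.image_mono fun _ hj => lt_of_lt_of_le hj h)

theorem pre_top : pre Q m = Q.eSpan := by
  rw [pre, Polar.eSpan, ← Set.image_univ]
  exact congrArg _ (congrArg _ (Set.eq_univ_of_forall fun j => j.isLt))

theorem pre_le_eSpan (n : ℕ) : pre Q n ≤ Q.eSpan :=
  Submodule.span_mono (Set.image_subset_range _ _)

theorem eLT_eq (i : Fin m) : A.eLT i = pre Q i := by
  rw [Polar.Act.eLT, pre]
  congr 2

theorem β_pre {n : ℕ} {j : Fin m} (h : n ≤ (j : ℕ)) {y : V} (hy : y ∈ pre Q n) :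
    Q.h y (Q.f j) = 0 := by
  induction hy using Submodule.span_induction with
  | mem y hy =>
    obtain ⟨k, hk, rfl⟩ := hy
    rw [Q.h_ef, if_neg]
    intro e
    have h2 : (k : ℕ) < n := hk
    subst e
    omega
  | zero => exact Q.zero_left _
  | add a b _ _ ha hb => rw [Q.add_left, ha, hb, add_zero]
  | smul c a _ ha => rw [Q.smul_left, ha, mul_zero]

theorem α_pre {n : ℕ} {j : Fin m} {y : V} (hy : y ∈ pre Q n) : Q.h y (Q.e j) = 0 :=
  Q.α_eSpan (pre_le_eSpan n hy) j

theorem h_pre_right {n : ℕ} {v y : V} (hv : ∀ j : Fin m, (j : ℕ) < n → Q.h v (Q.e j) = 0)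
    (hy : y ∈ pre Q n) : Q.h v y = 0 := by
  induction hy using Submodule.span_induction with
  | mem y hy => obtain ⟨k, hk, rfl⟩ := hy; exact hv k hk
  | zero => exact Q.zero_right _
  | add a b _ _ ha hb => rw [Q.add_right, ha, hb, add_zero]
  | smul c a _ ha => rw [Q.smul_right, ha, mul_zero]

theorem eq_of_frame {x y : V} (hx : x ∈ pre Q m) (hy : y ∈ pre Q m)
    (h : ∀ j, Q.h x (Q.f j) = Q.h y (Q.f j)) : x = y := by
  rcases Nat.eq_zero_or_pos m with hm | hm
  · subst hm
    have h0 : ∀ z ∈ pre Q 0, z = 0 := fun z hz => by simpa [pre] using hz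
    rw [h0 x hx, h0 y hy]
  haveI : Nonempty (Fin m) := ⟨⟨0, hm⟩⟩
  rw [pre_top] at hx hy
  rw [Q.eq_sum (Q.ts_eSpan.1 x hx) (Q.α_eSpan hx), Q.eq_sum (Q.ts_eSpan.1 y hy) (Q.α_eSpan hy)]
  exact Finset.sum_congr rfl fun j _ => by rw [Q.β_apply, Q.β_apply, h j]

theorem K_le_pre (n : ℕ) : A.K ≤ stabS A (pre Q n) := by
  intro g hg
  refine mem_stabS_span A ?_
  rintro _ ⟨j, hj, rfl⟩
  have := add_mem (pre_mono (le_of_lt hj) (eLT_eq A j ▸ (A.mem_K.1 hg).1 j)) (e_mem_pre hj)
  rwa [sub_add_cancel] at this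

variable (Q) in
/-- The second maximal subspace through the last hyperplane of `eSpan`. -/
def twin (l : Fin m) : Submodule F V := Submodule.span F (Set.range (Function.update Q.e l (Q.f l)))

variable {l : Fin m}

theorem pre_le_twin (hl : (l : ℕ) + 1 = m) : pre Q l ≤ twin Q l := by
  refine Submodule.span_le.2 ?_
  rintro _ ⟨j, hj, rfl⟩
  exact Submodule.subset_span ⟨j, Function.update_of_ne
    (fun e => absurd (congrArg Fin.val e) (Nat.ne_of_lt hj)) _ _⟩

theorem f_mem_twin : Q.f l ∈ twin Q l := Submodule.subset_span ⟨l, Function.update_self _ _ _⟩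

/-- Elements fixing the last hyperplane move its two maximal subspaces to themselves. -/
theorem image_cases (hF : ¬ Q.Fat) (hl : (l : ℕ) + 1 = m) {g : G} (hg : g ∈ stabS A (pre Q l))
    {x : V} (hx : Q.sing x) (hxe : ∀ j : Fin m, (j : ℕ) < l → Q.h x (Q.e j) = 0) :
    ∃ y ∈ pre Q l, A.ρ g x - y = Q.h (A.ρ g x) (Q.f l) • Q.e l ∨
      A.ρ g x - y = (Q.ε * Q.h (A.ρ g x) (Q.e l)) • Q.f l := by
  classical
  let y := ∑ j ∈ Finset.univ.erase l, Q.h (A.ρ g x) (Q.f j) • Q.e j
  have hy : y ∈ pre Q l := Submodule.sum_mem _ fun j hj => Submodule.smul_mem _ _ (e_mem_pre (by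
    have : (j : ℕ) ≠ l := fun e => (Finset.mem_erase.1 hj).1 (Fin.ext e)
    have := j.isLt
    omega))
  have hge : ∀ j : Fin m, (j : ℕ) < l → Q.h (A.ρ g x) (Q.e j) = 0 := fun j hj => by
    rw [A.h_left]
    exact h_pre_right hxe ((stabS A (pre Q l)).inv_mem hg _ (e_mem_pre hj))
  haveI : Nonempty (Fin m) := ⟨l⟩
  have hs : Q.sing (A.ρ g x + (-1 : F) • y) := Q.sing_add (A.sing_ρ g _ hx)
    (Q.sing_smul _ (Q.ts_eSpan.1 y (pre_le_eSpan _ hy))) (by
      rw [Q.smul_right, h_pre_right hge hy, mul_zero])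
  rw [neg_one_smul, ← sub_eq_add_neg] at hs
  have hlt : ∀ j : Fin m, j ≠ l → (j : ℕ) < l := fun j hj => by
    have := j.isLt
    have : (j : ℕ) ≠ l := fun e => hj (Fin.ext e)
    omega
  have hα : Q.α l (A.ρ g x - y) = Q.h (A.ρ g x) (Q.e l) := by
    rw [Q.α_apply, Q.sub_left, α_pre hy, sub_zero]
  have hβ : Q.β l (A.ρ g x - y) = Q.h (A.ρ g x) (Q.f l) := by
    rw [Q.β_apply, Q.sub_left, β_pre le_rfl hy, sub_zero]
  refine ⟨y, hy, ?_⟩
  rw [← hα, ← hβ]
  refine Polar.thin_cases hF hs (fun j hj => ?_) fun j hj => ?_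
  · rw [Q.α_apply, Q.sub_left, α_pre hy, hge j (hlt j hj), sub_zero]
  · simp [Q.β_apply, Q.sub_left, y, Q.sum_left, Q.smul_left, Q.h_ef, hj, Ne.symm hj]

theorem e_not_mem_twin (hl : (l : ℕ) + 1 = m) : Q.e l ∉ twin Q l := by
  intro h
  have : ∀ z ∈ twin Q l, Q.h z (Q.f l) = 0 := by
    intro z hz
    induction hz using Submodule.span_induction with
    | mem z hz =>
      obtain ⟨j, rfl⟩ := hz
      rcases eq_or_ne j l with rfl | hj
      · rw [Function.update_self, Q.h_ff]
      · rw [Function.update_of_ne hj, Q.h_ef, if_neg hj]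
    | zero => exact Q.zero_left _
    | add a b _ _ ha hb => rw [Q.add_left, ha, hb, add_zero]
    | smul c a _ ha => rw [Q.smul_left, ha, mul_zero]
  have := this _ h
  simp [Q.h_ef] at this

theorem f_not_mem_eSpan (j : Fin m) : Q.f j ∉ Q.eSpan := fun h => by
  have := Q.α_eSpan h j
  rw [Q.α_apply, Q.h_fe, if_pos rfl] at this
  exact Q.ε_ne this

theorem finrank_twin : Module.finrank F (twin Q l) = m := by
  classical
  have hli : LinearIndependent F (Function.update Q.e l (Q.f l)) := by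
    have h := Q.linearIndependent_fr.comp (fun j : Fin m => (j, decide (j = l)))
      (fun a b e => congrArg Prod.fst e)
    convert h using 1
    funext j
    rcases eq_or_ne j l with rfl | hj
    · simp [Polar.fr]
    · simp [Polar.fr, hj]
  rw [twin, finrank_span_eq_card hli, Fintype.card_fin]

theorem finrank_eSpan : Module.finrank F Q.eSpan = m := by
  have hli : LinearIndependent F Q.e := Q.linearIndependent_fr.comp (fun j : Fin m => (j, false))
    (fun a b e => congrArg Prod.fst e)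
  rw [Polar.eSpan, finrank_span_eq_card hli, Fintype.card_fin]

/-- The stabiliser of the last hyperplane fixes `eSpan`. -/
theorem stab_pre_le_eSpan (hF : ¬ Q.Fat) (hl : (l : ℕ) + 1 = m) :
    stabS A (pre Q l) ≤ stabS A Q.eSpan := by
  intro g hg
  refine mem_stabS_span A ?_
  rintro _ ⟨j, rfl⟩
  rcases eq_or_ne j l with rfl | hj
  swap
  · exact pre_le_eSpan _ (hg _ (e_mem_pre (by
      have := j.isLt
      have : (j : ℕ) ≠ l := fun e => hj (Fin.ext e)
      omega)))
  obtain ⟨y, hy, h | h⟩ := image_cases A hF hl hg (Q.sing_e j) (fun k _ => Q.h_ee j k)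
  · rw [sub_eq_iff_eq_add] at h
    rw [h]
    exact add_mem (Submodule.smul_mem _ _ (Submodule.subset_span ⟨j, rfl⟩)) (pre_le_eSpan _ hy)
  · exfalso
    refine (A.fat_or.resolve_left hF) g j hl (Submodule.eq_of_le_of_finrank_le ?_ ?_)
    · rw [Submodule.map_le_iff_le_comap]
      refine Submodule.span_le.2 ?_
      rintro _ ⟨k, rfl⟩
      show A.ρ g (Q.e k) ∈ twin Q j
      rcases eq_or_ne k j with rfl | hk
      · rw [sub_eq_iff_eq_add] at h
        rw [h]
        exact add_mem (Submodule.smul_mem _ _ f_mem_twin) (pre_le_twin hl hy)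
      · exact pre_le_twin hl (hg _ (e_mem_pre (by
          have := k.isLt
          have : (k : ℕ) ≠ j := fun e => hk (Fin.ext e)
          omega)))
    · rw [LinearEquiv.finrank_map_eq, finrank_eSpan]
      exact (finrank_twin (Q := Q) (l := j)).le

/-- An element fixing `eSpan` and its last hyperplane fixes the twin. -/
theorem stab_le_twin (hF : ¬ Q.Fat) (hl : (l : ℕ) + 1 = m) :
    stabS A (pre Q l) ≤ stabS A (twin Q l) := by
  intro g hg
  have hE := stab_pre_le_eSpan A hF hl hg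
  refine mem_stabS_span A ?_
  rintro _ ⟨j, rfl⟩
  rcases eq_or_ne j l with rfl | hj
  swap
  · rw [Function.update_of_ne hj]
    exact pre_le_twin hl (hg _ (e_mem_pre (by
      have := j.isLt
      have : (j : ℕ) ≠ l := fun e => hj (Fin.ext e)
      omega)))
  rw [Function.update_self]
  obtain ⟨y, hy, h | h⟩ := image_cases A hF hl hg (Q.sing_f j)
    (fun k hk => by rw [Q.h_fe, if_neg (fun e => by subst e; omega)])
  · exfalso
    rw [sub_eq_iff_eq_add] at h
    have h1 : A.ρ g (Q.f j) ∈ Q.eSpan := by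
      rw [h]
      exact add_mem (Submodule.smul_mem _ _ (Submodule.subset_span ⟨j, rfl⟩)) (pre_le_eSpan _ hy)
    have h2 := (stabS A Q.eSpan).inv_mem hE _ h1
    rw [A.ρ_inv_ρ] at h2
    exact f_not_mem_eSpan j h2
  · rw [sub_eq_iff_eq_add] at h
    rw [h]
    exact add_mem (Submodule.smul_mem _ _ f_mem_twin) (pre_le_twin hl hy)

theorem K_le_twin (hF : ¬ Q.Fat) (hl : (l : ℕ) + 1 = m) : A.K ≤ stabS A (twin Q l) :=
  (K_le_pre A l).trans (stab_le_twin A hF hl)

open Classical in
variable (Q) in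
/-- The subspaces whose stabilisers are the maximal overgroups. -/
noncomputable def node (i : Fin m) : Submodule F V :=
  if h : ¬ Q.Fat ∧ (i : ℕ) + 2 = m then twin Q ⟨(i : ℕ) + 1, by omega⟩ else pre Q ((i : ℕ) + 1)

theorem K_le_node (i : Fin m) : A.K ≤ stabS A (node Q i) := by
  unfold node
  split
  next h => exact K_le_twin A h.1 (by simp; omega)
  next => exact K_le_pre A _

/-- A vector fixed by the unipotent subgroup modulo an invariant subspace. -/
theorem exists_fixed_mod [Fact p.Prime] [CharP F p] [Finite F] {E W : Submodule F V} (hEW : E < W)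
    (hE : A.K ≤ stabS A E) (hW : A.K ≤ stabS A W) :
    ∃ v ∈ W, v ∉ E ∧ ∀ g ∈ A.K, A.ρ g v - v ∈ E := by
  haveI : Finite V := Module.finite_of_finite F
  haveI : Finite (V ⧸ E) := Finite.of_surjective _ E.mkQ_surjective
  let α := ↥(W.map E.mkQ)
  let f : A.K → (V ⧸ E) →ₗ[F] (V ⧸ E) := fun g => E.mapQ E (A.ρ g).toLinearMap fun v hv => hE g.2 v hv
  have hf : ∀ (g : A.K) (v : V), f g (E.mkQ v) = E.mkQ (A.ρ g v) := fun g v => rfl
  letI : MulAction A.K α :=
    { smul := fun g x => ⟨f g x.1, by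
        obtain ⟨v, hv, e⟩ := x.2
        exact ⟨A.ρ g v, hW g.2 v hv, by rw [← hf, e]⟩⟩
      one_smul := fun x => Subtype.ext (by
        obtain ⟨v, -, e⟩ := x.2
        show f 1 x.1 = x.1
        rw [← e, hf, OneMemClass.coe_one, A.ρ_one])
      mul_smul := fun g k x => Subtype.ext (by
        obtain ⟨v, -, e⟩ := x.2
        show f (g * k) x.1 = f g (f k x.1)
        rw [← e, hf, hf, hf, Subgroup.coe_mul, A.ρ_mul]) }
  have hz : (0 : α) ∈ MulAction.fixedPoints A.K α := fun g => Subtype.ext (map_zero (f g))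
  have hpos : 0 < Module.finrank F α := by
    refine Nat.pos_of_ne_zero fun e => ?_
    obtain ⟨v, hv, hv'⟩ := SetLike.exists_of_lt hEW
    have h0 := Submodule.finrank_eq_zero.1 e
    have : E.mkQ v ∈ (⊥ : Submodule F (V ⧸ E)) := h0 ▸ Submodule.mem_map_of_mem hv
    exact hv' ((Submodule.Quotient.mk_eq_zero E).1 ((Submodule.mem_bot F).1 this))
  have hdvd : p ∣ Nat.card α := by
    rw [Module.natCard_eq_pow_finrank (K := F)]
    haveI := Fintype.ofFinite F
    obtain ⟨k, hk⟩ := FiniteField.card F p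
    rw [Nat.card_eq_fintype_card (α := F), hk.2]
    exact dvd_pow (dvd_pow_self p k.ne_zero) hpos.ne'
  obtain ⟨b, hb, hb0⟩ :=
    (A.isPGroup_K).exists_fixed_point_of_prime_dvd_card_of_fixed_point α hdvd hz
  obtain ⟨v, hv, e⟩ := b.2
  refine ⟨v, hv, fun hvE => hb0 (Subtype.ext ?_), fun g hg => ?_⟩
  · show (0 : V ⧸ E) = b.1
    rw [← e]
    exact ((Submodule.Quotient.mk_eq_zero E).2 hvE).symm
  · have h1 : f ⟨g, hg⟩ b.1 = b.1 := congrArg Subtype.val (hb ⟨g, hg⟩)
    rw [← e, hf] at h1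
    exact (Submodule.Quotient.eq E).1 h1

/-- A singular vector fixed modulo the first `i` vectors, orthogonal to them. -/
theorem fixed_step' (i : Fin m) {v : V} (hs : Q.sing v) (hv : v ∉ pre Q i)
    (hα : ∀ j < i, Q.h v (Q.e j) = 0) (hfix : ∀ g ∈ A.K, A.ρ g v - v ∈ pre Q i) :
    (∃ c : F, c ≠ 0 ∧ v - c • Q.e i ∈ pre Q i) ∨
      ((i : ℕ) + 1 = m ∧ ¬ Q.Fat ∧ ∃ c : F, c ≠ 0 ∧ v - c • Q.f i ∈ pre Q i) := by
  classical
  haveI : Nonempty (Fin m) := ⟨i⟩
  let y := ∑ j ∈ Finset.Iio i, Q.h v (Q.f j) • Q.e j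
  have hy : y ∈ pre Q i := Submodule.sum_mem _ fun j hj =>
    Submodule.smul_mem _ _ (e_mem_pre (Fin.lt_iff_val_lt_val.1 (Finset.mem_Iio.1 hj)))
  set r := v - y with hr
  have hrs : Q.sing r := by
    have := Q.sing_add hs (Q.sing_smul (-1 : F) (Q.ts_eSpan.1 y (pre_le_eSpan _ hy))) (by
      rw [Q.smul_right, h_pre_right (fun j hj => hα j (Fin.lt_iff_val_lt_val.2 hj)) hy, mul_zero])
    rwa [neg_one_smul, ← sub_eq_add_neg] at this
  have hrα : ∀ j < i, Q.h r (Q.e j) = 0 := fun j hj => by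
    rw [hr, Q.sub_left, hα j hj, α_pre hy, sub_zero]
  have hrβ : ∀ j < i, Q.h r (Q.f j) = 0 := fun j hj => by
    simp [hr, y, Q.sub_left, Q.sum_left, Q.smul_left, Q.h_ef, hj]
  have hrfix : ∀ g ∈ A.K, A.ρ g r - r ∈ pre Q i := fun g hg => by
    have : A.ρ g r - r = (A.ρ g v - v) - (A.ρ g y - y) := by rw [hr, map_sub]; abel
    rw [this]
    exact sub_mem (hfix g hg) (sub_mem (K_le_pre A _ hg y hy) hy)
  -- root elements give linear conditions
  have move : ∀ (w : V) (c : F), (∀ j ≤ i, Q.h w (Q.e j) = 0) →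
      Q.h w (Q.f i) = 0 → Q.sing (Q.f i + Q.ε • w + (Q.ε * c) • Q.e i) →
      Q.h r (Q.e i) • w + (-(Q.ε * Q.h r w) + c * Q.h r (Q.e i)) • Q.e i ∈ pre Q i := by
    intro w c hwe hwi hws
    obtain ⟨g, hg, hρ⟩ := A.exists_mem_K i w c hwe hwi hws
    have := hrfix g hg
    rwa [hρ, add_assoc, add_sub_cancel_left] at this
  have hjsing : ∀ (x : V), Q.sing x → Q.h (Q.f i) x = 0 →
      Q.sing (Q.f i + Q.ε • x + (Q.ε * 0) • Q.e i) := fun x hx hix => by
    rw [mul_zero, zero_smul, add_zero]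
    exact Q.sing_add (Q.sing_f i) (Q.sing_smul _ hx) (by rw [Q.smul_right, hix, mul_zero])
  by_cases hαi : Q.h r (Q.e i) = 0
  · left
    have hz : ∀ (x : V), Q.sing x → (∀ j ≤ i, Q.h x (Q.e j) = 0) → Q.h x (Q.f i) = 0 →
        Q.h r x = 0 := by
      intro x hx hxe hxf
      have h1 := β_pre (j := i) le_rfl (move x 0 hxe hxf (hjsing x hx (Q.comm_zero hxf)))
      rw [hαi, zero_smul, zero_add, Q.smul_left, Q.h_ef, if_pos rfl, mul_one, mul_zero, add_zero,
        neg_eq_zero, mul_eq_zero] at h1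
      exact h1.resolve_left Q.ε_ne
    have hall : ∀ j, Q.h r (Q.e j) = 0 := fun j => by
      rcases lt_trichotomy j i with h | rfl | h
      · exact hrα j h
      · exact hαi
      · exact hz _ (Q.sing_e j) (fun k _ => Q.h_ee j k) (by rw [Q.h_ef, if_neg h.ne'])
    have hβ : ∀ j, j ≠ i → Q.h r (Q.f j) = 0 := fun j hj => by
      rcases lt_or_gt_of_ne hj with h | h
      · exact hrβ j h
      · exact hz _ (Q.sing_f j) (fun k hk => by rw [Q.h_fe, if_neg (lt_of_le_of_lt hk h).ne'])
          (Q.h_ff j i)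
    have hre : r = Q.h r (Q.f i) • Q.e i := by
      conv_lhs => rw [Q.eq_sum hrs hall]
      exact Finset.sum_eq_single i (fun j _ hj => by rw [Q.β_apply, hβ j hj, zero_smul]) (by simp)
    refine ⟨Q.h r (Q.f i), fun e => hv ?_, by rw [← hre, hr, sub_sub_cancel]; exact hy⟩
    rw [e, zero_smul, hr, sub_eq_zero] at hre
    rw [hre]
    exact hy
  right
  have hi : (i : ℕ) + 1 = m := by
    by_contra hne
    have := i.isLt
    set k : Fin m := ⟨(i : ℕ) + 1, by omega⟩
    have hik : i < k := Fin.lt_iff_val_lt_val.2 (Nat.lt_succ_self _)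
    have h1 := β_pre (j := k) (Nat.le_succ _) (move (Q.e k) 0 (fun j _ => Q.h_ee k j)
      (by rw [Q.h_ef, if_neg hik.ne']) (hjsing _ (Q.sing_e k) (by rw [Q.h_fe, if_neg hik.ne])))
    rw [Q.add_left, Q.smul_left, Q.smul_left, Q.h_ef, if_pos rfl, Q.h_ef, if_neg hik.ne, mul_one,
      mul_zero, add_zero] at h1
    exact hαi h1
  have hF : ¬ Q.Fat := fun hF => by
    obtain ⟨w, c, hne, hw, hws⟩ := hF i
    have h1 := move w c (fun j _ => (hw j).1) (hw i).2 hws
    have h2 := β_pre (j := i) le_rfl h1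
    rw [Q.add_left, Q.smul_left, Q.smul_left, (hw i).2, Q.h_ef, if_pos rfl, mul_one, mul_zero,
      zero_add] at h2
    rw [h2, zero_smul, add_zero] at h1
    have hw0 : w = 0 := by
      by_contra hw0
      refine hw0 (Q.aniso w ?_ (fun j => (hw j).1) fun j => (hw j).2)
      have := Q.ts_eSpan.1 _ (pre_le_eSpan _ ((Submodule.smul_mem_iff _ hαi).1 h1))
      exact this
    rw [hw0, Q.zero_right, mul_zero, neg_zero, zero_add] at h2
    exact (hne.resolve_left (not_not.2 hw0)) ((mul_eq_zero.1 h2).resolve_right hαi)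
  refine ⟨hi, hF, ?_⟩
  have hjlt : ∀ j : Fin m, j ≠ i → j < i := fun j hj => Fin.lt_iff_val_lt_val.2 (by
    have := j.isLt
    have : (j : ℕ) ≠ i := fun e => hj (Fin.ext e)
    omega)
  rcases Polar.thin_cases hF hrs (fun j hj => hrα j (hjlt j hj)) (fun j hj => hrβ j (hjlt j hj))
    with h | h
  · exfalso
    apply hαi
    rw [h, Q.smul_left, Q.h_ee, mul_zero]
  · exact ⟨_, mul_ne_zero Q.ε_ne hαi, by rw [show Q.h r (Q.e i) = Q.α i r from rfl, ← h, hr, sub_sub_cancel]; exact hy⟩

/-- Invariant totally singular subspaces are stabilised only inside a node stabiliser. -/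
theorem exists_node [Fact p.Prime] [CharP F p] [Finite F] {W : Submodule F V} (hW : Q.TS W)
    (hKW : A.K ≤ stabS A W) (hW0 : W ≠ ⊥) (hm : Q.Fat ∨ 2 ≤ m) :
    ∃ i, stabS A W ≤ stabS A (node Q i) := by
  classical
  haveI : Finite V := Module.finite_of_finite F
  -- the largest initial segment inside `W`
  have hex : ∃ k ≤ m, pre Q k ≤ W ∧ (k = m ∨ ¬ pre Q (k + 1) ≤ W) := by
    by_contra hcon
    push Not at hcon
    have hall : ∀ k ≤ m, pre Q k ≤ W := by
      intro k
      induction k with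
      | zero => intro _; simp [pre]
      | succ k ih => intro hk; exact (hcon k (by omega) (ih (by omega))).2
    exact (hcon m le_rfl (hall m le_rfl)).1 rfl
  obtain ⟨k, hk, hkW, hmax⟩ := hex
  rcases eq_or_lt_of_le hk with rfl | hkm
  · -- `W` is `eSpan`
    have hm0 : 0 < k := by
      by_contra h
      obtain rfl : k = 0 := by omega
      obtain ⟨v, hv, hv0⟩ := W.exists_mem_ne_zero_of_ne_bot hW0
      exact hv0 (Q.aniso v (hW.1 v hv) (fun i => i.elim0) fun i => i.elim0)
    have heq : W = Q.eSpan := (Submodule.eq_of_le_of_finrank_le (pre_top (Q := Q) ▸ hkW) (by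
      rw [finrank_eSpan]; exact Q.finrank_le hW)).symm
    refine ⟨⟨k - 1, by omega⟩, ?_⟩
    rw [heq, node, dif_neg (fun h => by simp at h; omega)]
    simp only [show k - 1 + 1 = k by omega, pre_top]
    exact le_rfl
  have hmax' := hmax.resolve_left hkm.ne
  by_cases heq : W = pre Q k
  · have hk0 : 0 < k := by
      by_contra h
      obtain rfl : k = 0 := by omega
      exact hW0 (by rw [heq]; simp [pre])
    by_cases hthin : ¬ Q.Fat ∧ k + 1 = m
    · refine ⟨⟨k, hkm⟩, ?_⟩
      have hle := stab_pre_le_eSpan A hthin.1 (l := ⟨k, hkm⟩) hthin.2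
      rw [node, dif_neg (fun h => by simp at h; omega)]
      simp only [hthin.2, pre_top]
      rw [heq]
      exact hle
    · refine ⟨⟨k - 1, by omega⟩, ?_⟩
      rw [node, dif_neg (fun h => hthin ⟨h.1, by simp at h; omega⟩)]
      simp only [show k - 1 + 1 = k by omega]
      rw [heq]
  obtain ⟨v, hv, hv', hfix⟩ := exists_fixed_mod A (lt_of_le_of_ne hkW (Ne.symm heq)) (K_le_pre A k) hKW
  rcases fixed_step' A ⟨k, hkm⟩ (hW.1 v hv) hv' (fun j hj => hW.2 v hv _ (hkW (e_mem_pre hj))) hfix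
    with ⟨c, hc, hcv⟩ | ⟨hlast, hF, c, hc, hcv⟩
  · exfalso
    refine hmax' (Submodule.span_le.2 ?_)
    rintro _ ⟨j, hj, rfl⟩
    rcases Nat.lt_succ_iff_lt_or_eq.1 hj with hj | hj
    · exact hkW (e_mem_pre hj)
    · obtain rfl : j = ⟨k, hkm⟩ := Fin.ext hj
      have := W.smul_mem c⁻¹ (sub_mem hv (hkW hcv))
      rwa [sub_sub_cancel, smul_smul, inv_mul_cancel₀ hc, one_smul] at this
  · -- `W` is the twin
    simp only at hlast
    set l : Fin m := ⟨k, hkm⟩
    have hle : twin Q l ≤ W := by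
      refine Submodule.span_le.2 ?_
      rintro _ ⟨j, rfl⟩
      rcases eq_or_ne j l with rfl | hj
      · rw [Function.update_self]
        have := W.smul_mem c⁻¹ (sub_mem hv (hkW hcv))
        rwa [sub_sub_cancel, smul_smul, inv_mul_cancel₀ hc, one_smul] at this
      · rw [Function.update_of_ne hj]
        exact hkW (e_mem_pre (by
          have := j.isLt
          have : (j : ℕ) ≠ k := fun e => hj (Fin.ext e)
          omega))
    have hWeq : W = twin Q l := (Submodule.eq_of_le_of_finrank_le hle (by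
      rw [finrank_twin]; exact Q.finrank_le hW)).symm
    rcases Nat.eq_zero_or_pos k with hk0 | hk0
    · -- rank one: thin lines do not occur
      exfalso
      have := hm.resolve_left hF
      omega
    refine ⟨⟨k - 1, by omega⟩, ?_⟩
    rw [node, dif_pos ⟨hF, by simp; omega⟩, hWeq]
    simp only [show k - 1 + 1 = k by omega]
    exact le_rfl

end CfsgLib.CharP.PMin
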