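import Cfsg.Agent.Lib.CharP.PMin.Polar
import Cfsg.Agent.Lib.Base.Nilpotent

/-!
Exclusion and Borel properties for the classical groups on polar spaces.
-/

set_option autoImplicit false
set_option linter.unusedSectionVars false
set_option linter.style.haveILetI false

namespace CfsgLib.CharP.PMin

open CfsgLib.CharsMore.St CfsgLib.Base Subgroup

universe u v w

variable {F : Type u} [Field F] [Finite F] {V : Type v} [AddCommGroup V] [Module F V] {m : ℕ}
  {Q : Polar F V m} {p : ℕ} [hp : Fact p.Prime] [CharP F p] {G : Type w} [Group G] (A : Q.Act p G)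
  [Finite G] [FiniteDimensional F V]

/-! ### Moving one node -/

theorem node_mem_stab {g : G} (i : Fin m)
    (he : ¬ (¬ Q.Fat ∧ (i : ℕ) + 2 = m) →
      ∀ j : Fin m, (j : ℕ) ≤ i → A.ρ g (Q.e j) ∈ pre Q ((i : ℕ) + 1))
    (hth : ∀ l : Fin m, ¬ Q.Fat → (i : ℕ) + 2 = m → (l : ℕ) + 1 = m → A.ρ g (Q.f l) ∈ twin Q l ∧
      ∀ j : Fin m, j ≠ l → A.ρ g (Q.e j) ∈ twin Q l) :
    g ∈ stabS A (node Q i) := by
  unfold node
  split
  next h =>
    set l : Fin m := ⟨(i : ℕ) + 1, by omega⟩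
    obtain ⟨h1, h2⟩ := hth l h.1 h.2 (by simp [l]; omega)
    refine mem_stabS_span A ?_
    rintro _ ⟨j, rfl⟩
    rcases eq_or_ne j l with rfl | hj
    · rwa [Function.update_self]
    · rw [Function.update_of_ne hj]; exact h2 j hj
  next h =>
    refine mem_stabS_span A ?_
    rintro _ ⟨j, hj, rfl⟩
    exact he h j (Nat.lt_succ_iff.1 hj)

theorem e_mem_twin {l j : Fin m} (hj : j ≠ l) : Q.e j ∈ twin Q l :=
  Submodule.subset_span ⟨j, Function.update_of_ne hj _ _⟩

theorem h_twin {l : Fin m} {z : V} (hz : z ∈ twin Q l) {j : Fin m} (hj : j ≠ l) :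
    Q.h z (Q.e j) = 0 := by
  induction hz using Submodule.span_induction with
  | mem z hz =>
    obtain ⟨k, rfl⟩ := hz
    rcases eq_or_ne k l with rfl | hk
    · rw [Function.update_self, Q.h_fe, if_neg (Ne.symm hj)]
    · rw [Function.update_of_ne hk, Q.h_ee]
  | zero => exact Q.zero_left _
  | add a b _ _ ha hb => rw [Q.add_left, ha, hb, add_zero]
  | smul c a _ ha => rw [Q.smul_left, ha, mul_zero]

theorem node_last {i : Fin m} (hlast : (i : ℕ) + 1 = m) : node Q i = Q.eSpan := by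
  rw [node, dif_neg (fun h => by omega), hlast, pre_top]

/-- Root elements between two hyperbolic pairs. -/
theorem exists_root_pair {a b w : V} (ha : Q.sing a) (hb : Q.sing b) (hw : Q.sing w)
    (hab : Q.h a b = 1) (hwa : Q.h w a = 0) (hwb : Q.h w b = 0) :
    ∃ g, ∀ v, A.ρ g v = v + Q.h v a • w + (-(Q.ε * Q.h v w)) • a := by
  obtain ⟨g, hg⟩ := A.elem a b w ha hb hab hwa hwb 0 (by
    rw [mul_zero, zero_smul, add_zero]
    exact Q.sing_add hb (Q.sing_smul _ hw) (by rw [Q.smul_right, Q.comm_zero hwb, mul_zero]))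
  exact ⟨g, fun v => by rw [hg v, zero_mul, add_zero]⟩

/-- Every node can be moved by an element fixing the others, and fixing most of the frame. -/
theorem exists_move (hm : Q.Fat ∨ 2 ≤ m) (i : Fin m) :
    ∃ g, g ∉ stabS A (node Q i) ∧ (∀ k, k ≠ i → g ∈ stabS A (node Q k)) ∧
      ((i : ℕ) + 1 = m → ∀ j : Fin m,
        ((j : ℕ) + 2 < m ∨ (Q.Fat ∧ j ≠ i)) → A.ρ g (Q.e j) = Q.e j) := by
  classical
  by_cases hlast : (i : ℕ) + 1 = m
  · by_cases hF : Q.Fat
    · obtain ⟨g, ⟨c, hc⟩, hg⟩ := A.flip hF i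
      refine ⟨g, fun hgi => ?_, fun k hk => ?_, fun _ j hj => (hg j ?_).1⟩
      · rw [node_last hlast] at hgi
        have h2 := hgi _ (Submodule.subset_span ⟨i, rfl⟩)
        rw [hc] at h2
        have hc0 : c ≠ 0 := fun e => Q.linearIndependent_fr.ne_zero (i, false)
          ((A.ρ g).injective (by rw [map_zero, Q.fr_false, hc, e, zero_smul]))
        exact f_not_mem_eSpan i ((Submodule.smul_mem_iff _ hc0).1 h2)
      · refine node_mem_stab A k (fun _ j hj => ?_) (fun _ h => absurd hF h)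
        have hji : j ≠ i := fun e => by
          subst e
          have := k.isLt
          exact hk (Fin.ext (by omega))
        rw [(hg j hji).1]
        exact e_mem_pre (Nat.lt_succ_iff.2 hj)
      · rcases hj with hj | hj
        · intro e; subst e; omega
        · exact hj.2
    · have h2 : 2 ≤ m := hm.resolve_left hF
      set k₀ : Fin m := ⟨m - 2, by omega⟩
      have hne : k₀ ≠ i := fun e => by
        have := congrArg Fin.val e
        simp [k₀] at this
        omega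
      obtain ⟨g, hg⟩ := exists_root_pair A (a := Q.f i) (b := Q.ε • Q.e i) (w := Q.f k₀) (Q.sing_f i)
        (Q.sing_smul _ (Q.sing_e i)) (Q.sing_f k₀)
        (by simp [Q.smul_right, Q.h_fe, Q.σ_ε, Q.ε_mul]) (Q.h_ff _ _)
        (by simp [Q.smul_right, Q.h_fe, hne])
      have hfix : ∀ j, j ≠ i → j ≠ k₀ → A.ρ g (Q.e j) = Q.e j := fun j hji hjk => by
        simp [hg, Q.h_ef, hji, hjk]
      have hi : A.ρ g (Q.e i) = Q.e i + Q.f k₀ := by
        simp [hg, Q.h_ef, hne.symm]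
      have hk₀ : A.ρ g (Q.e k₀) = Q.e k₀ + (-Q.ε) • Q.f i := by
        simp [hg, Q.h_ef, hne]
      refine ⟨g, fun hgi => ?_, fun k hk => ?_, fun _ j hj => ?_⟩
      · rw [node_last hlast] at hgi
        have h3 := hgi _ (Submodule.subset_span ⟨i, rfl⟩)
        rw [hi] at h3
        have h4 : Q.e i ∈ Q.eSpan := Submodule.subset_span ⟨i, rfl⟩
        exact f_not_mem_eSpan k₀ ((Submodule.add_mem_iff_right _ h4).1 h3)
      · refine node_mem_stab A k (fun hn j hj => ?_) (fun l _ _ hl => ?_)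
        · have hk2 : (k : ℕ) + 2 ≠ m := fun e => hn ⟨hF, e⟩
          have hk1 : (k : ℕ) < m - 2 := by
            have := k.isLt
            have : (k : ℕ) ≠ i := fun e => hk (Fin.ext e)
            omega
          rw [hfix j (fun e => by subst e; omega) (fun e => by subst e; simp [k₀] at hj; omega)]
          exact e_mem_pre (Nat.lt_succ_iff.2 hj)
        · obtain rfl : l = i := Fin.ext (by omega)
          refine ⟨?_, fun j hj => ?_⟩
          · have : A.ρ g (Q.f l) = Q.f l := by simp [hg, Q.h_ff]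
            rw [this]
            exact f_mem_twin
          · by_cases hjk : j = k₀
            · subst hjk
              rw [hk₀]
              exact add_mem (e_mem_twin hj) (Submodule.smul_mem _ _ f_mem_twin)
            · rw [hfix j hj hjk]
              exact e_mem_twin hj
      · rcases hj with hj | hj
        · exact hfix j (fun e => by subst e; omega) (fun e => by subst e; simp [k₀] at hj; omega)
        · exact absurd hj.1 hF
  · have hi1 : (i : ℕ) + 1 < m := by have := i.isLt; omega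
    set n : Fin m := ⟨(i : ℕ) + 1, hi1⟩
    have hni : n ≠ i := fun e => by simp [n, Fin.ext_iff] at e
    obtain ⟨g, hg⟩ := exists_root_pair A (a := Q.e n) (b := Q.f n) (w := Q.f i) (Q.sing_e n)
      (Q.sing_f n) (Q.sing_f i) (by simp [Q.h_ef]) (by simp [Q.h_fe, hni.symm]) (Q.h_ff _ _)
    have hi : A.ρ g (Q.e i) = Q.e i + (-Q.ε) • Q.e n := by
      simp [hg, Q.h_ef, Q.h_ee]
    have hfix : ∀ j, j ≠ i → A.ρ g (Q.e j) = Q.e j := fun j hj => by
      simp [hg, Q.h_ef, Q.h_ee, hj]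
    have hfn : ∀ j, A.ρ g (Q.f j) = Q.f j + (if j = n then Q.ε else 0) • Q.f i := fun j => by
      simp [hg, Q.h_ff, Q.h_fe]
    refine ⟨g, fun hgi => ?_, fun k hk => ?_, fun h => absurd h hlast⟩
    · by_cases hth : ¬ Q.Fat ∧ (i : ℕ) + 2 = m
      · rw [node, dif_pos hth] at hgi
        have h3 := hgi _ (f_mem_twin (l := n))
        rw [hfn, if_pos rfl] at h3
        have h4 : Q.f i ∈ twin Q n := (Submodule.smul_mem_iff _ Q.ε_ne).1
          ((Submodule.add_mem_iff_right _ f_mem_twin).1 h3)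
        have h5 := h_twin h4 hni.symm
        rw [Q.h_fe, if_pos rfl] at h5
        exact Q.ε_ne h5
      · rw [node, dif_neg hth] at hgi
        have h3 := hgi _ (e_mem_pre (Nat.lt_succ_self (i : ℕ)))
        rw [hi] at h3
        have h4 : Q.e n ∈ pre Q ((i : ℕ) + 1) := (Submodule.smul_mem_iff _ (neg_ne_zero.2 Q.ε_ne)).1
          ((Submodule.add_mem_iff_right _ (e_mem_pre (Nat.lt_succ_self (i : ℕ)))).1 h3)
        have h5 := β_pre (j := n) le_rfl h4
        rw [Q.h_ef, if_pos rfl] at h5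
        exact one_ne_zero h5
    · refine node_mem_stab A k (fun _ j hj => ?_) (fun l _ hk2 hl => ?_)
      · by_cases hji : j = i
        · subst hji
          rw [hi]
          have : (j : ℕ) ≠ k := fun e => hk (Fin.ext e.symm)
          exact add_mem (e_mem_pre (Nat.lt_succ_iff.2 hj))
            (Submodule.smul_mem _ _ (e_mem_pre (by simp [n]; omega)))
        · rw [hfix j hji]
          exact e_mem_pre (Nat.lt_succ_iff.2 hj)
      · have hik : (i : ℕ) ≠ k := fun e => hk (Fin.ext e.symm)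
        have hnl : n ≠ l := fun e => by
          have := congrArg Fin.val e
          simp [n] at this
          omega
        refine ⟨?_, fun j hj => ?_⟩
        · rw [hfn, if_neg hnl.symm, zero_smul, add_zero]
          exact f_mem_twin
        · by_cases hji : j = i
          · subst hji
            rw [hi]
            exact add_mem (e_mem_twin hj) (Submodule.smul_mem _ _ (e_mem_twin hnl))
          · rw [hfix j hji]
            exact e_mem_twin hj

/-! ### The centre of the unipotent subgroup -/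

/-- Root elements carry `f 0` to every singular vector of the same height. -/
theorem exists_mem_K_eq (i : Fin m) (hi : ∀ j : Fin m, i ≤ j) {y : V} (hs : Q.sing y)
    (hy : Q.h y (Q.e i) = Q.ε) : ∃ g ∈ A.K, A.ρ g (Q.f i) = y := by
  set w := Q.ε • (y - Q.f i - Q.h y (Q.f i) • Q.e i) with hw
  have hwe : Q.h w (Q.e i) = 0 := by
    simp [hw, Q.smul_left, Q.sub_left, Q.h_fe, Q.h_ee, hy]
  have hwf : Q.h w (Q.f i) = 0 := by simp [hw, Q.smul_left, Q.sub_left, Q.h_ff, Q.h_ef]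
  have hsum : Q.f i + Q.ε • w + (Q.ε * (Q.ε * Q.h y (Q.f i))) • Q.e i = y := by
    simp only [hw, smul_smul, ← mul_assoc, Q.ε_mul, one_smul, one_mul]
    abel
  obtain ⟨g, hg, hρ⟩ := A.exists_mem_K i w _ (fun j hj => le_antisymm hj (hi j) ▸ hwe) hwf
    (hsum.symm ▸ hs)
  refine ⟨g, hg, ?_⟩
  rw [hρ, Q.h_fe, if_pos rfl, Q.comm_zero hwf, mul_zero, neg_zero, zero_add,
    mul_comm _ Q.ε]
  exact hsum

/-- A root element at the first index with a given parameter. -/
theorem exists_param (i : Fin m) (hi : ∀ j : Fin m, i ≤ j) {w : V} (hwe : Q.h w (Q.e i) = 0)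
    (hwf : Q.h w (Q.f i) = 0) :
    ∃ c, ∃ g ∈ A.K, ∀ v, A.ρ g v =
      v + Q.h v (Q.e i) • w + (-(Q.ε * Q.h v w) + c * Q.h v (Q.e i)) • Q.e i := by
  obtain ⟨c, hc⟩ := Q.complete (Q.e i) (Q.f i) w (Q.sing_e i) (Q.sing_f i) (by simp [Q.h_ef]) hwe hwf
  exact ⟨c, A.exists_mem_K i w c (fun j hj => le_antisymm hj (hi j) ▸ hwe) hwf hc⟩

/-- The splitting off of a hyperbolic pair. -/
theorem exists_perp (i : Fin m) (v : V) : ∃ (a b : F) (w : V), Q.h w (Q.e i) = 0 ∧
    Q.h w (Q.f i) = 0 ∧ v = a • Q.e i + b • Q.f i + w ∧ a = Q.h v (Q.f i) ∧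
      b = Q.ε * Q.h v (Q.e i) := by
  refine ⟨_, _, v - Q.h v (Q.f i) • Q.e i - (Q.ε * Q.h v (Q.e i)) • Q.f i, ?_, ?_, ?_, rfl, rfl⟩
  · simp [Q.sub_left, Q.smul_left, Q.h_ee, Q.h_fe, mul_right_comm, Q.ε_mul]
  · simp [Q.sub_left, Q.smul_left, Q.h_ff, Q.h_ef]
  · abel

theorem K_fix_e (i : Fin m) (hi : ∀ j : Fin m, i ≤ j) {g : G} (hg : g ∈ A.K) :
    A.ρ g (Q.e i) = Q.e i := by
  have h : A.eLT i = ⊥ := by
    rw [Polar.Act.eLT, Submodule.span_eq_bot]
    rintro _ ⟨j, hj, rfl⟩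
    exact absurd (hi j) (not_le.2 hj)
  exact sub_eq_zero.1 ((Submodule.mem_bot F).1 (h ▸ (A.mem_K.1 hg).1 i))

variable {z : G} (i : Fin m) (hi : ∀ j : Fin m, i ≤ j) (hz : z ∈ A.K)
  (hzc : ∀ u ∈ A.K, z * u = u * z)

include hi hz hzc

/-- The displacement of `f 0` under a central element. -/
theorem h_disp_e : Q.h (A.ρ z (Q.f i) - Q.f i) (Q.e i) = 0 := by
  rw [Q.sub_left, sub_eq_zero]
  conv_lhs => rw [← K_fix_e A i hi hz]
  exact A.h_ρ z _ _

theorem map_perp {w : V} (hwe : Q.h w (Q.e i) = 0) (hwf : Q.h w (Q.f i) = 0) :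
    A.ρ z w = w + (-Q.h (A.ρ z (Q.f i) - Q.f i) w) • Q.e i := by
  obtain ⟨c, g, hg, hρ⟩ := exists_param A i hi hwe hwf
  have h0 := congrArg (fun k => A.ρ k (Q.f i)) (hzc g hg)
  simp only [A.ρ_mul] at h0
  have h1 : A.ρ g (Q.f i) = Q.f i + Q.ε • w + (c * Q.ε) • Q.e i := by
    rw [hρ, Q.h_fe, if_pos rfl, Q.comm_zero hwf, mul_zero, neg_zero, zero_add]
  have hs := h_disp_e A i hi hz hzc
  set s := A.ρ z (Q.f i) - Q.f i with hsdef
  have hzf : A.ρ z (Q.f i) = Q.f i + s := by rw [hsdef]; abel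
  have h2 : A.ρ g s = s + (-(Q.ε * Q.h s w)) • Q.e i := by
    rw [hρ, hs, zero_smul, add_zero, mul_zero, add_zero]
  rw [h1, hzf, map_add, map_add, map_add, map_smul, map_smul, K_fix_e A i hi hz, h1, h2, hzf] at h0
  have h3 : Q.ε • A.ρ z w = Q.ε • (w + (-Q.h s w) • Q.e i) := by
    linear_combination (norm := module) h0
  exact smul_right_injective V Q.ε_ne h3

/-- A central element is given by the displacement. -/
theorem center_apply (v : V) : A.ρ z v = v + (Q.ε * Q.h v (Q.e i)) • (A.ρ z (Q.f i) - Q.f i) +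
    (-Q.h (A.ρ z (Q.f i) - Q.f i) v + Q.σ (Q.ε * Q.h v (Q.e i)) *
      Q.h (A.ρ z (Q.f i) - Q.f i) (Q.f i)) • Q.e i := by
  obtain ⟨a, b, w, hwe, hwf, hv, -, hb⟩ := exists_perp (Q := Q) i v
  rw [← hb]
  have hs := h_disp_e A i hi hz hzc
  have hsv : Q.h (A.ρ z (Q.f i) - Q.f i) v = Q.σ b * Q.h (A.ρ z (Q.f i) - Q.f i) (Q.f i) +
      Q.h (A.ρ z (Q.f i) - Q.f i) w := by
    rw [hv, Q.add_right, Q.add_right, Q.smul_right, Q.smul_right, hs, mul_zero, zero_add]
  rw [hsv, hv, map_add, map_add, map_smul, map_smul, K_fix_e A i hi hz,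
    map_perp A i hi hz hzc hwe hwf]
  module

/-- Elements fixing `e 0` and the displacement commute with a central element. -/
theorem commute_center {g : G} (hge : A.ρ g (Q.e i) = Q.e i)
    (hgs : A.ρ g (A.ρ z (Q.f i) - Q.f i) = A.ρ z (Q.f i) - Q.f i) : g * z = z * g := by
  refine A.inj (LinearEquiv.ext fun v => ?_)
  show A.ρ (g * z) v = A.ρ (z * g) v
  rw [A.ρ_mul, A.ρ_mul, center_apply A i hi hz hzc v, center_apply A i hi hz hzc (A.ρ g v)]
  have h1 : Q.h (A.ρ g v) (Q.e i) = Q.h v (Q.e i) := by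
    conv_lhs => rw [← hge]
    exact A.h_ρ g _ _
  have h2 : Q.h (A.ρ z (Q.f i) - Q.f i) (A.ρ g v) = Q.h (A.ρ z (Q.f i) - Q.f i) v := by
    conv_lhs => rw [← hgs]
    exact A.h_ρ g _ _
  rw [h1, h2, map_add, map_add, map_smul, map_smul, hge, hgs]

/-- The form is linear on the central elements. -/
theorem disp_perp (hσ : ∃ c, Q.σ c ≠ c) {w : V} (hwe : Q.h w (Q.e i) = 0) (hwf : Q.h w (Q.f i) = 0) :
    Q.h (A.ρ z (Q.f i) - Q.f i) w = 0 := by
  obtain ⟨c, hc⟩ := hσ
  have h1 := map_perp A i hi hz hzc (w := c • w) (by rw [Q.smul_left, hwe, mul_zero])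
    (by rw [Q.smul_left, hwf, mul_zero])
  rw [map_smul, map_perp A i hi hz hzc hwe hwf, Q.smul_right] at h1
  have h2 : ((Q.σ c - c) * Q.h (A.ρ z (Q.f i) - Q.f i) w) • Q.e i = 0 := by
    linear_combination (norm := module) h1
  have h3 := (smul_eq_zero.1 h2).resolve_right (Q.linearIndependent_fr.ne_zero (i, false))
  exact (mul_eq_zero.1 h3).resolve_left (sub_ne_zero.2 hc)

theorem disp_eq_of_perp (hrad : ∀ x, (∀ y, Q.h x y = 0) → x = 0)
    (h : ∀ w, Q.h w (Q.e i) = 0 → Q.h w (Q.f i) = 0 → Q.h (A.ρ z (Q.f i) - Q.f i) w = 0) :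
    A.ρ z (Q.f i) - Q.f i = Q.h (A.ρ z (Q.f i) - Q.f i) (Q.f i) • Q.e i := by
  refine sub_eq_zero.1 (hrad _ fun y => ?_)
  obtain ⟨a, b, w, hwe, hwf, hy, -, -⟩ := exists_perp (Q := Q) i y
  rw [hy, Q.sub_left, Q.smul_left, Q.add_right, Q.add_right, Q.add_right, Q.add_right, Q.smul_right,
    Q.smul_right, Q.smul_right, Q.smul_right, h_disp_e A i hi hz hzc, h w hwe hwf, Q.h_ee, Q.h_ef,
    if_pos rfl, Q.comm_zero hwe]
  ring

/-- For three indices the displacement is in the span of the first two frame vectors. -/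
theorem disp_eq (hrad : ∀ x, (∀ y, Q.h x y = 0) → x = 0) {j k : Fin m} (hij : i < j) (hjk : j < k)
    (hj : ∀ l : Fin m, l < j → l = i) :
    A.ρ z (Q.f i) - Q.f i = Q.h (A.ρ z (Q.f i) - Q.f i) (Q.f i) • Q.e i +
      Q.h (A.ρ z (Q.f i) - Q.f i) (Q.f j) • Q.e j := by
  set s := A.ρ z (Q.f i) - Q.f i with hsdef
  have hjle : ∀ l : Fin m, l ≤ j → l = i ∨ l = j := fun l hl =>
    (lt_or_eq_of_le hl).elim (fun h => Or.inl (hj l h)) Or.inr
  -- the action of root elements at the second index on the displacement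
  have key : ∀ (w : V) (c : F), Q.h w (Q.e i) = 0 → Q.h w (Q.e j) = 0 → Q.h w (Q.f j) = 0 →
      Q.sing (Q.f j + Q.ε • w + (Q.ε * c) • Q.e j) →
      Q.h s (Q.e j) • w + (-(Q.ε * Q.h s w) + c * Q.h s (Q.e j)) • Q.e j =
        (Q.ε * Q.h (Q.f i) w * Q.h s (Q.e j)) • Q.e i := by
    intro w c hwei hwej hwfj hsing
    obtain ⟨g, hg, hρ⟩ := A.exists_mem_K j w c
      (fun l hl => (hjle l hl).elim (fun e => e ▸ hwei) (fun e => e ▸ hwej)) hwfj hsing
    have h0 := congrArg (fun u => A.ρ u (Q.f i)) (hzc g hg)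
    simp only [A.ρ_mul] at h0
    have h1 : A.ρ g (Q.f i) = Q.f i + (-(Q.ε * Q.h (Q.f i) w)) • Q.e j := by
      rw [hρ, Q.h_fe, if_neg hij.ne, zero_smul, add_zero, mul_zero, add_zero]
    have hzf : A.ρ z (Q.f i) = Q.f i + s := by rw [hsdef]; abel
    rw [h1, hzf, map_add, map_add, map_smul, h1,
      map_perp A i hi hz hzc (Q.h_ee j i) (by rw [Q.h_ef, if_neg hij.ne']), hρ s, ← hsdef, hzf] at h0
    linear_combination (norm := module) -h0
  have hse : Q.h s (Q.e j) = 0 := by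
    have hik : i < k := hij.trans hjk
    have := key (Q.e k) 0 (Q.h_ee k i) (Q.h_ee k j) (by rw [Q.h_ef, if_neg hjk.ne']) (by
      rw [mul_zero, zero_smul, add_zero]
      exact Q.sing_add (Q.sing_f j) (Q.sing_smul _ (Q.sing_e k))
        (by rw [Q.smul_right, Q.h_fe, if_neg hjk.ne, mul_zero]))
    have h2 := congrArg (fun x => Q.h x (Q.f k)) this
    simpa [Q.add_left, Q.smul_left, Q.neg_left, Q.zero_left, Q.h_ef, Q.h_fe, hjk.ne, hik.ne] using h2
  have hperp : ∀ w, Q.h w (Q.e i) = 0 → Q.h w (Q.e j) = 0 → Q.h w (Q.f j) = 0 → Q.h s w = 0 := by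
    intro w h1 h2 h3
    obtain ⟨c, hc⟩ := Q.complete (Q.e j) (Q.f j) w (Q.sing_e j) (Q.sing_f j) (by simp [Q.h_ef]) h2 h3
    have := key w c h1 h2 h3 hc
    rw [hse, zero_smul, mul_zero, add_zero, zero_add, mul_zero, zero_smul] at this
    have := (smul_eq_zero.1 this).resolve_right (Q.linearIndependent_fr.ne_zero (j, false))
    simpa [Q.ε_ne] using this
  refine sub_eq_zero.1 (hrad _ fun y => ?_)
  obtain ⟨a, b, w, hwe, hwf, hy, -, -⟩ := exists_perp (Q := Q) i y
  obtain ⟨a', b', w', hwe', hwf', hy', -, -⟩ := exists_perp (Q := Q) j w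
  have hwi : Q.h w' (Q.e i) = 0 := by
    have := hwe
    rw [hy', Q.add_left, Q.add_left, Q.smul_left, Q.smul_left, Q.h_ee, Q.h_fe, if_neg hij.ne'] at this
    simpa using this
  have hwfi : Q.h w' (Q.f i) = 0 := by
    have := hwf
    rw [hy', Q.add_left, Q.add_left, Q.smul_left, Q.smul_left, Q.h_ef, Q.h_ff, if_neg hij.ne'] at this
    simpa using this
  have hes : Q.h s (Q.e i) = 0 := h_disp_e A i hi hz hzc
  rw [hy, hy']
  simp [Q.sub_left, Q.add_left, Q.add_right, Q.smul_left, Q.smul_right, Q.h_ee, Q.h_ef, hij.ne,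
    hij.ne', hse, hes, hperp w' hwi hwe' hwf', Q.comm_zero hwe', Q.comm_zero hwi, Q.comm_zero hwfi]
  ring

/-- A central element fixing a vector opposite to `e 0` is trivial. -/
theorem eq_one_of_opposite {y : V} (hy : Q.sing y) (hye : Q.h y (Q.e i) ≠ 0)
    (hzy : A.ρ z y = y) : z = 1 := by
  set c := Q.ε * (Q.h y (Q.e i))⁻¹ with hc
  obtain ⟨g, hg, hgy⟩ := exists_mem_K_eq A i hi (Q.sing_smul c hy) (by
    rw [Q.smul_left, hc, mul_assoc, inv_mul_cancel₀ hye, mul_one])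
  have h1 : A.ρ g (A.ρ z (Q.f i)) = A.ρ g (Q.f i) := by
    rw [← A.ρ_mul, ← hzc g hg, A.ρ_mul, hgy, map_smul, hzy]
  refine A.inj (LinearEquiv.ext fun v => ?_)
  show A.ρ z v = A.ρ 1 v
  rw [A.ρ_one, center_apply A i hi hz hzc v, (A.ρ g).injective h1, sub_self, Q.zero_left, Q.zero_left]
  simp

omit i hi hz hzc

/-! ### The maximal overgroups in the group modulo the centre -/

section mod_center

variable (hsc : ∀ c ∈ center G, ∃ t : F, ∀ v, A.ρ c v = t • v)

/-- The stabilisers of the nodes modulo the centre. -/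
noncomputable def members (i : Fin m) : Subgroup (G ⧸ center G) :=
  (stabS A (node Q i)).map (QuotientGroup.mk' (center G))

include hsc

theorem center_le_stab (W : Submodule F V) : center G ≤ stabS A W := fun c hc v hv => by
  obtain ⟨t, ht⟩ := hsc c hc
  rw [ht]
  exact W.smul_mem t hv

theorem mk_mem_members {g : G} {i : Fin m} :
    QuotientGroup.mk' (center G) g ∈ members A i ↔ g ∈ stabS A (node Q i) := by
  refine ⟨fun ⟨h, hh, e⟩ => ?_, fun h => ⟨g, h, rfl⟩⟩
  have : h⁻¹ * g ∈ center G := by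
    rw [← QuotientGroup.eq]; exact e
  have h2 := mul_mem hh (center_le_stab A hsc _ this)
  rwa [mul_inv_cancel_left] at h2

/-- An element of `p`-power order over the image of `A.K` lies in it. -/
theorem mem_K_of_image {x : G} (hx : ∃ k, x ^ p ^ k = 1)
    (hxU : QuotientGroup.mk' (center G) x ∈ A.K.map (QuotientGroup.mk' (center G))) : x ∈ A.K := by
  obtain ⟨u, hu, e⟩ := hxU
  have hc : u⁻¹ * x ∈ center G := by rw [← QuotientGroup.eq]; exact e
  obtain ⟨t, ht⟩ := hsc _ hc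
  obtain ⟨a, ha⟩ := hx
  obtain ⟨b, hb⟩ := A.isPGroup_K ⟨u, hu⟩
  have hb' : u ^ p ^ b = 1 := congrArg Subtype.val hb
  have hcom : Commute u⁻¹ x := by
    have h1 := (mem_center_iff.1 hc u)
    have h2 : Commute u (u⁻¹ * x) := h1
    have h3 : Commute u x := by
      have := (Commute.refl u).mul_right h2
      rwa [mul_inv_cancel_left] at this
    exact h3.inv_left
  have : u⁻¹ * x = 1 := eq_one_of_scalar A.ρ A.inj ht (k := a + b) (by
    rw [hcom.mul_pow, inv_pow, pow_add, pow_mul x, ha, one_pow, mul_one, mul_comm, pow_mul u, hb',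
      one_pow, inv_one])
  rw [inv_mul_eq_one] at this
  exact this ▸ hu

theorem exists_sylow_mod [Finite G] :
    ∃ U : Sylow p (G ⧸ center G), (U : Subgroup _) = A.K.map (QuotientGroup.mk' (center G)) := by
  obtain ⟨P, hP⟩ := A.exists_sylow
  exact ⟨P.mapSurjective (QuotientGroup.mk'_surjective (center G)), by rw [← hP]; rfl⟩

/-- The nodes give the covering family of the maximal overgroups. -/
theorem cover_members (hm0 : 0 < m) (hm : Q.Fat ∨ 2 ≤ m) [IsSimpleGroup (G ⧸ center G)]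
    (hfull : Full p (G ⧸ center G)) :
    Cover (A.K.map (QuotientGroup.mk' (center G))) (members A) := by
  set π := QuotientGroup.mk' (center G) with hπ
  have hle : ∀ i, A.K.map π ≤ members A i := fun i => map_mono (K_le_node A i)
  refine ⟨hle, fun i e => ?_, fun H hUH hH => ?_, fun i => ?_⟩
  · obtain ⟨g, hg, -⟩ := exists_move A hm i
    exact hg ((mk_mem_members A hsc).1 (e ▸ mem_top (π g)))
  swap
  · obtain ⟨g, hg, hg', -⟩ := exists_move A hm i
    exact ⟨π g, fun h => hg ((mk_mem_members A hsc).1 h),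
      fun k hk => (mk_mem_members A hsc).2 (hg' k hk)⟩
  obtain ⟨P, hP⟩ := exists_sylow_mod A hsc
  have hi : ¬ p ∣ H.index := fun hd => P.not_dvd_index
    (hd.trans (index_dvd_of_le (hP ▸ hUH)))
  have hR : Cfsg.pCore p ↥H ≠ ⊥ := fun h => hH (hfull H h hi)
  set R := (Cfsg.pCore p ↥H).map H.subtype with hRdef
  have hRp : IsPGroup p R := (isPGroup_pCore p ↥H).map _
  have hRH : R ≤ H := map_subtype_le _
  have hRn : H ≤ normalizer (R : Set (G ⧸ center G)) := by
    intro h hh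
    rw [mem_normalizer_iff]
    have key : ∀ h ∈ H, ∀ x ∈ R, h * x * h⁻¹ ∈ R := by
      rintro h hh _ ⟨x, hx, rfl⟩
      exact ⟨⟨h, hh⟩ * x * ⟨h, hh⟩⁻¹,
        (inferInstance : (Cfsg.pCore p ↥H).Normal).conj_mem x hx _, rfl⟩
    refine fun x => ⟨key h hh x, fun hx => ?_⟩
    have := key _ (inv_mem hh) _ hx
    simpa [mul_assoc] using this
  have hRU : R ≤ A.K.map π := by
    have hp' : IsPGroup p ↥(R ⊔ A.K.map π) :=
      IsPGroup.to_sup_of_normal_left' hRp (hP ▸ P.isPGroup') (hUH.trans hRn)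
    have := P.is_maximal' hp' (hP.le.trans le_sup_right)
    rw [hP] at this
    exact le_sup_left.trans this.le
  set R' := R.comap π ⊓ A.K with hR'
  set H' := H.comap π with hH'
  have hconj : ∀ g ∈ H', ∀ r ∈ R', g * r * g⁻¹ ∈ R' := by
    intro g hg r hr
    have h1 : π g * π r * (π g)⁻¹ ∈ R := ((mem_normalizer_iff.1 (hRn hg)) _).1 hr.1
    rw [← map_inv, ← map_mul, ← map_mul] at h1
    refine ⟨h1, mem_K_of_image A hsc ?_ (hRU h1)⟩
    obtain ⟨k, hk⟩ := A.isPGroup_K ⟨r, hr.2⟩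
    exact ⟨k, by rw [conj_pow, show r ^ p ^ k = 1 from congrArg Subtype.val hk, mul_one, mul_inv_cancel]⟩
  have hR'0 : R' ≠ ⊥ := by
    intro e
    refine hR ((map_eq_bot_iff_of_injective _ H.subtype_injective).1 (eq_bot_iff.2 fun x hx => ?_))
    obtain ⟨u, hu, rfl⟩ := hRU hx
    rw [(mem_bot).1 (e ▸ (⟨hx, hu⟩ : u ∈ R') : u ∈ (⊥ : Subgroup G)), map_one]
    exact one_mem _
  have hKH : A.K ≤ H' := fun u hu => hUH ⟨u, hu, rfl⟩
  -- a central element of `A.K` inside the radical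
  obtain ⟨z, hzR, hz1, hzc⟩ : ∃ z ∈ R', z ≠ 1 ∧ ∀ u ∈ A.K, z * u = u * z := by
    haveI : Nontrivial R' := (nontrivial_iff_ne_bot R').2 hR'0
    haveI : (R'.subgroupOf A.K).Normal := ⟨fun n hn g => mem_subgroupOf.2 (hconj g (hKH g.2) n hn)⟩
    haveI : Nontrivial (R'.subgroupOf A.K) :=
      (subgroupOfEquivOfLe (inf_le_right : R' ≤ A.K)).toEquiv.nontrivial
    haveI : Group.IsNilpotent A.K := A.isPGroup_K.isNilpotent
    obtain ⟨z, hz, hz1⟩ := (Subgroup.ne_bot_iff_exists_ne_one.1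
      (CfsgLib.Base.inf_center_ne_bot_of_isNilpotent (N := R'.subgroupOf A.K)
        ((nontrivial_iff_ne_bot _).1 inferInstance))) |> fun ⟨⟨z, hz⟩, h⟩ => (⟨z, hz, fun e => h (Subtype.ext e)⟩ : ∃ z, z ∈ R'.subgroupOf A.K ⊓ center A.K ∧ z ≠ 1)
    exact ⟨z, hz.1, fun e => hz1 (Subtype.ext e), fun u hu =>
      (congrArg Subtype.val (mem_center_iff.1 hz.2 ⟨u, hu⟩)).symm⟩
  set i₀ : Fin m := ⟨0, hm0⟩
  have hi₀ : ∀ j : Fin m, i₀ ≤ j := fun j => Nat.zero_le _
  set S : Set V := {v | ∃ g ∈ H', A.ρ g (Q.e i₀) = v}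
  have horth : ∀ g ∈ H', Q.h (A.ρ g (Q.e i₀)) (Q.e i₀) = 0 := by
    intro g hg
    by_contra hne
    refine hz1 (eq_one_of_opposite A i₀ hi₀ hzR.2 hzc (A.sing_ρ g _ (Q.sing_e i₀)) hne ?_)
    have h1 := K_fix_e A i₀ hi₀ (hconj g⁻¹ (inv_mem hg) z hzR).2
    rw [inv_inv, A.ρ_mul, A.ρ_mul] at h1
    have h2 := congrArg (A.ρ g) h1
    rwa [A.ρ_ρ_inv] at h2
  haveI : Nonempty (Fin m) := ⟨i₀⟩
  have hTS : Q.TS (Submodule.span F S) := by
    refine Q.ts_span Q.sing_zero ?_ ?_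
    · rintro _ ⟨g, -, rfl⟩
      exact A.sing_ρ g _ (Q.sing_e i₀)
    · rintro _ ⟨g, hg, rfl⟩ _ ⟨g', hg', rfl⟩
      rw [← A.h_ρ g'⁻¹, A.ρ_inv_ρ, ← A.ρ_mul]
      exact horth _ (mul_mem (inv_mem hg') hg)
  have hHS : H' ≤ stabS A (Submodule.span F S) := fun g hg => mem_stabS_span A (by
    rintro _ ⟨g', hg', rfl⟩
    exact Submodule.subset_span ⟨g * g', mul_mem hg hg', A.ρ_mul g g' _⟩)
  have hS0 : Submodule.span F S ≠ ⊥ := fun e =>
    Q.linearIndependent_fr.ne_zero (i₀, false) ((Submodule.mem_bot F).1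
      (e ▸ Submodule.subset_span ⟨1, one_mem _, A.ρ_one _⟩))
  obtain ⟨j, hj⟩ := exists_node A hTS (hKH.trans hHS) hS0 hm
  refine ⟨j, fun x hx => ?_⟩
  obtain ⟨g, rfl⟩ := QuotientGroup.mk'_surjective (center G) x
  exact ⟨g, hj (hHS hx), rfl⟩

omit hsc in
theorem stab_pre_normalizer {g : G} (hg : ∀ n, n ≤ m → g ∈ stabS A (pre Q n)) :
    g ∈ normalizer (A.K : Set G) := by
  have key : ∀ g : G, (∀ n, n ≤ m → g ∈ stabS A (pre Q n)) → ∀ u ∈ A.K, g * u * g⁻¹ ∈ A.K := by
    intro g hg u hu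
    have hgi : ∀ n, n ≤ m → g⁻¹ ∈ stabS A (pre Q n) := fun n hn => inv_mem (hg n hn)
    have e : ∀ v, A.ρ (g * u * g⁻¹) v - v = A.ρ g (A.ρ u (A.ρ g⁻¹ v) - A.ρ g⁻¹ v) := fun v => by
      rw [map_sub, A.ρ_mul, A.ρ_mul, A.ρ_ρ_inv]
    have hu' := A.mem_K.1 hu
    refine A.mem_K.2 ⟨fun i => ?_, fun v hv => ?_⟩
    · rw [e, eLT_eq]
      refine hg _ i.isLt.le _ ?_
      have h1 : ∀ x ∈ pre Q ((i : ℕ) + 1), A.ρ u x - x ∈ pre Q i := by
        intro x hx
        induction hx using Submodule.span_induction with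
        | mem x hx =>
          obtain ⟨j, hj, rfl⟩ := hx
          exact pre_mono (Nat.lt_succ_iff.1 hj) (eLT_eq A j ▸ hu'.1 j)
        | zero => simp
        | add a b _ _ ha hb =>
          rw [map_add, add_sub_add_comm]
          exact add_mem ha hb
        | smul c a _ ha =>
          rw [map_smul, ← smul_sub]
          exact Submodule.smul_mem _ _ ha
      exact h1 _ (hgi _ i.isLt _ (e_mem_pre (Nat.lt_succ_self _)))
    · rw [e]
      refine pre_top (Q := Q) ▸ hg m le_rfl _ (pre_top (Q := Q) ▸ hu'.2 _ fun j => ?_)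
      show Q.h (A.ρ g⁻¹ v) (Q.e j) = 0
      rw [A.h_left, inv_inv]
      exact h_pre_right (n := m) (fun l _ => hv l) (hg m le_rfl _ (e_mem_pre j.isLt))
  rw [mem_normalizer_iff]
  refine fun u => ⟨key g hg u, fun hu => ?_⟩
  have := key g⁻¹ (fun n hn => inv_mem (hg n hn)) _ hu
  simpa [mul_assoc] using this

/-- The meet of the members normalises the Sylow subgroup in the fat case. -/
theorem iInf_members_le (hF : Q.Fat) (hm0 : 0 < m) :
    ⨅ i, members A i ≤ normalizer (A.K.map (QuotientGroup.mk' (center G)) : Set (G ⧸ center G)) := by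
  intro x hx
  obtain ⟨g, rfl⟩ := QuotientGroup.mk'_surjective (center G) x
  refine le_normalizer_map _ ⟨g, stab_pre_normalizer A fun n hn => ?_, rfl⟩
  rcases Nat.eq_zero_or_pos n with rfl | hn0
  · intro v hv
    have : v = 0 := by simpa [pre] using hv
    rw [this, map_zero]
    exact zero_mem _
  have h1 : g ∈ stabS A (node Q ⟨n - 1, by omega⟩) :=
    (mk_mem_members A hsc).1 (mem_iInf.1 hx ⟨n - 1, by omega⟩)
  rw [node, dif_neg (fun h => h.1 hF)] at h1
  simpa [show n - 1 + 1 = n by omega] using h1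

omit hsc in
theorem center_mod_eq_bot [IsSimpleGroup (G ⧸ center G)] {U H : Subgroup (G ⧸ center G)}
    (hU1 : U ≠ ⊥) (hUH : U ≤ H) (hH : H ≠ ⊤) : center (G ⧸ center G) = ⊥ := by
  refine ((inferInstance : (center (G ⧸ center G)).Normal).eq_bot_or_eq_top).resolve_right fun e => ?_
  haveI : U.Normal := ⟨fun n hn g => by
    rw [(mem_center_iff.1 (e ▸ mem_top n : n ∈ center (G ⧸ center G))) g]
    simpa using hn⟩
  exact ((inferInstance : U.Normal).eq_bot_or_eq_top).elim hU1 fun h => hH (top_le_iff.1 (h ▸ hUH))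

theorem K_map_ne_bot (hm : 2 ≤ m) : A.K.map (QuotientGroup.mk' (center G)) ≠ ⊥ := by
  intro e
  set i : Fin m := ⟨0, by omega⟩
  set j : Fin m := ⟨1, by omega⟩
  have hij : i ≠ j := fun h => by simpa [i, j] using congrArg Fin.val h
  obtain ⟨g, hg, hρ⟩ := A.exists_mem_K i (Q.e j) 0 (fun l _ => Q.h_ee j l)
    (by rw [Q.h_ef, if_neg hij.symm]) (by
      rw [mul_zero, zero_smul, add_zero]
      exact Q.sing_add (Q.sing_f i) (Q.sing_smul _ (Q.sing_e j))
        (by rw [Q.smul_right, Q.h_fe, if_neg hij, mul_zero]))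
  have h1 : QuotientGroup.mk' (center G) g = 1 := (mem_bot).1 (e ▸ ⟨g, hg, rfl⟩)
  obtain ⟨t, ht⟩ := hsc g ((QuotientGroup.eq_one_iff g).1 h1)
  obtain ⟨k, hk⟩ := A.isPGroup_K ⟨g, hg⟩
  have h2 := eq_one_of_scalar A.ρ A.inj ht (k := k) (congrArg Subtype.val hk)
  have h3 := hρ (Q.f i)
  rw [h2, A.ρ_one, Q.h_fe, if_pos rfl, Q.h_fe, if_neg hij] at h3
  simp [Q.ε_ne] at h3
  exact Q.linearIndependent_fr.ne_zero (j, false) h3

/-- A `p`-element fixing the first frame vectors and moving the last node gives the exclusion. -/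
theorem excl_polar [IsSimpleGroup (G ⧸ center G)] (hfull : Full p (G ⧸ center G))
    (hrad : ∀ x, (∀ y, Q.h x y = 0) → x = 0)
    (hcase : (Q.Fat ∧ 3 ≤ m) ∨ 4 ≤ m ∨ (Q.Fat ∧ m = 2 ∧ ((∃ c, Q.σ c ≠ c) ∨ p ≠ 2))) :
    Excl p (G ⧸ center G) := by
  have hm2 : 2 ≤ m := by rcases hcase with h | h | h <;> omega
  obtain ⟨U, hU⟩ := exists_sylow_mod A hsc
  refine Excl.of_one U ?_
  rw [hU]
  have hcov := cover_members A hsc (by omega) (Or.inr hm2) hfull
  by_cases h2 : m = 2 ∧ ¬ ∃ c, Q.σ c ≠ c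
  · obtain ⟨rfl, hσ⟩ := h2
    refine hcov.excl_two ?_
    rcases hcase with h | h | h
    · omega
    · omega
    · exact h.2.2.resolve_left hσ
  set i₀ : Fin m := ⟨0, by omega⟩
  set l : Fin m := ⟨m - 1, by omega⟩
  have hl : (l : ℕ) + 1 = m := by simp [l]; omega
  have hi₀ : ∀ j : Fin m, i₀ ≤ j := fun j => Nat.zero_le _
  obtain ⟨g, hg, -, hfix⟩ := exists_move A (Or.inr hm2) l
  refine hcov.excl_center (hU ▸ U.isPGroup') (K_map_ne_bot A hsc hm2)
    (center_mod_eq_bot (K_map_ne_bot A hsc hm2) (hcov.le l) (hcov.ne_top l))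
    (g := QuotientGroup.mk' (center G) g) (i := l) (fun h => hg ((mk_mem_members A hsc).1 h)) ?_
  rintro _ ⟨z, hz, rfl⟩ hzU
  have hzc : ∀ u ∈ A.K, z * u = u * z := by
    intro u hu
    have h1 : QuotientGroup.mk' (center G) (z * u) = QuotientGroup.mk' (center G) (u * z) := by
      rw [map_mul, map_mul]; exact hzU _ ⟨u, hu, rfl⟩
    have h2 : (u * z)⁻¹ * (z * u) ∈ center G := by rw [← QuotientGroup.eq]; exact h1.symm
    obtain ⟨t, ht⟩ := hsc _ h2
    obtain ⟨k, hk⟩ := A.isPGroup_K ⟨_, mul_mem (inv_mem (mul_mem hu hz)) (mul_mem hz hu)⟩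
    have h3 := eq_one_of_scalar A.ρ A.inj ht (k := k) (congrArg Subtype.val hk)
    exact (inv_mul_eq_one.1 h3).symm
  rw [← map_mul, ← map_mul]
  refine congrArg _ ?_
  have hm3 : ∀ j : Fin m, (j : ℕ) = 0 ∨ ((j : ℕ) = 1 ∧ 3 ≤ m) → A.ρ g (Q.e j) = Q.e j := by
    intro j hj
    refine hfix hl j ?_
    rcases hcase with ⟨hF, h⟩ | h | ⟨hF, h, -⟩
    · exact Or.inr ⟨hF, fun e => by subst e; simp [l] at hj; omega⟩
    · left; omega
    · exact Or.inr ⟨hF, fun e => by subst e; simp [l] at hj; omega⟩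
  refine commute_center A i₀ hi₀ hz hzc (hm3 _ (Or.inl rfl)) ?_
  by_cases h3 : 3 ≤ m
  · rw [disp_eq A i₀ hi₀ hz hzc hrad (j := ⟨1, by omega⟩) (k := ⟨2, by omega⟩)
      (Fin.mk_lt_mk.2 Nat.zero_lt_one) (Fin.mk_lt_mk.2 Nat.one_lt_two)
      (fun a ha => Fin.ext (by
        have : (a : ℕ) < 1 := Fin.lt_def.1 ha
        simp [i₀]; omega)),
      map_add, map_smul, map_smul, hm3 _ (Or.inl rfl), hm3 _ (Or.inr ⟨rfl, h3⟩)]
  · rw [disp_eq_of_perp A i₀ hi₀ hz hzc hrad (fun w he hf => disp_perp A i₀ hi₀ hz hzc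
      (by by_contra hσ; exact h2 ⟨by omega, hσ⟩) he hf), map_smul, hm3 _ (Or.inl rfl)]

/-- The Borel property in the fat case. -/
theorem flat_polar [IsSimpleGroup (G ⧸ center G)] (hfull : Full p (G ⧸ center G)) (hF : Q.Fat)
    (hm : 0 < m) : Flat p m (G ⧸ center G) := by
  obtain ⟨U, hU⟩ := exists_sylow_mod A hsc
  refine Flat.of_one U ⟨members A, ?_⟩
  rw [hU]
  exact ⟨cover_members A hsc hm (Or.inl hF) hfull, iInf_members_le A hsc hF hm⟩

end mod_center

end CfsgLib.CharP.PMin
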