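import Cfsg.Agent.Lib.CharP.PMin.Basic
import Cfsg.Agent.Lib.CharP.Overgroup.Small
import Cfsg.Agent.Lib.CharP.Overgroup.Lie
import Cfsg.Agent.Lib.KnownA.Suzuki.Facts
import Cfsg.Agent.Lib.Chev.G2Two.Unitary
import Cfsg.Agent.Lib.Base.Nilpotent

/-!
Overgroups of Sylow subgroups in the small groups and the Suzuki groups.
-/

set_option autoImplicit false
set_option linter.unusedSectionVars false
set_option linter.style.haveILetI false

namespace CfsgLib.CharP.PMin

open Subgroup CfsgLib.Base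

variable {p : ℕ} [hp : Fact p.Prime] {K : Type*} [Group K] [Finite K]

/-- A proper overgroup of a Sylow subgroup normalises a non-trivial subgroup of it. -/
theorem exists_core (hF : Full p K) (U : Sylow p K) {M : Subgroup K} (hUM : (U : Subgroup K) ≤ M)
    (hM : M ≠ ⊤) :
    ∃ R : Subgroup K, R ≠ ⊥ ∧ R ≤ U ∧ ∀ g ∈ M, ∀ x ∈ R, g * x * g⁻¹ ∈ R := by
  have hidx : ¬ p ∣ M.index := fun h => U.not_dvd_index (h.trans (index_dvd_of_le hUM))
  refine ⟨(Cfsg.pCore p ↥M).map M.subtype, fun e => hM (hF M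
    ((Subgroup.map_eq_bot_iff_of_injective _ M.subtype_injective).1 e) hidx), ?_, ?_⟩
  · have h := pCore_le_sylow (U.subtype hUM)
    rintro _ ⟨x, hx, rfl⟩
    exact mem_subgroupOf.1 (h hx)
  · rintro g hg _ ⟨x, hx, rfl⟩
    exact ⟨⟨g, hg⟩ * x * ⟨g, hg⟩⁻¹, Normal.conj_mem inferInstance _ hx _, rfl⟩

/-- One member: a transitive action on the conjugates. -/
theorem flat_rankOne [IsSimpleGroup K] (U : Sylow p K) (hU : (U : Subgroup K) ≠ ⊥)
    (hne : normalizer ((U : Subgroup K) : Set K) ≠ ⊤)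
    (htr : ∀ g ∉ normalizer ((U : Subgroup K) : Set K), ∀ g' ∉ normalizer ((U : Subgroup K) : Set K),
      ∃ u ∈ (U : Subgroup K), (u * g)⁻¹ * g' ∈ normalizer ((U : Subgroup K) : Set K)) : Flat p 1 K := by
  refine Flat.of_one U ⟨fun _ => normalizer ((U : Subgroup K) : Set K), ⟨fun _ => le_normalizer,
    fun _ => hne, fun M hUM hM => ⟨0, fun g hg => ?_⟩, fun i => ?_⟩, iInf_le _ 0⟩
  · by_contra hgN
    obtain ⟨t, ht, ht1⟩ := (bot_or_exists_ne_one (U : Subgroup K)).resolve_left hU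
    refine hM (eq_top_of_conj_mem ht1 fun y => ?_)
    by_cases hy : y ∈ normalizer ((U : Subgroup K) : Set K)
    · exact hUM ((mem_normalizer_iff.1 hy t).1 ht)
    obtain ⟨u, hu, hn⟩ := htr g hgN y hy
    have h1 := mul_mem (mul_mem hg (hUM ((mem_normalizer_iff.1 hn t).1 ht))) (inv_mem hg)
    have h2 := mul_mem (mul_mem (hUM hu) h1) (inv_mem (hUM hu))
    convert h2 using 1
    group
  · obtain ⟨g, -, hg⟩ := SetLike.exists_of_lt (lt_top_iff_ne_top.2 hne)
    exact ⟨g, hg, fun k hk => absurd (Subsingleton.elim k i) hk⟩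

open CfsgLib.KnownA.Suzuki in
/-- The Suzuki groups. -/
theorem flat_sz {F : Type*} [Field F] [Fintype F] {m : ℕ} (hm : 1 ≤ m)
    (hK : Fintype.card F = 2 ^ (2 * m + 1)) : Flat 2 1 (Cfsg.Lie.Sz F (2 ^ (m + 1))) := by
  haveI : Fact (Nat.Prime 2) := ⟨Nat.prime_two⟩
  have H := titsField_of_card hK
  have h4 : 4 ≤ Nat.card F := by
    rw [Nat.card_eq_fintype_card, hK]
    exact le_trans (by norm_num) (Nat.pow_le_pow_right two_pos (show 3 ≤ 2 * m + 1 by omega))
  haveI := CfsgLib.KnownA.Suzuki.isSimpleGroup H h4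
  have hN := normalizer_uni H
  refine flat_rankOne (uniSylow H hK) (fun e => ?_) (fun e => sw_notMem_borel H ?_) (fun g hg g' hg' => ?_)
  · rw [coe_uniSylow] at e
    have := natCard_uni H
    rw [e, Subgroup.card_bot] at this
    nlinarith
  · rw [coe_uniSylow] at e
    rw [← hN, e]; exact Subgroup.mem_top _
  · rw [coe_uniSylow, hN] at hg hg' ⊢
    obtain ⟨a, b, β, hβ, rfl⟩ := (mem_borel_or H g).resolve_left hg
    obtain ⟨a', b', β', hβ', rfl⟩ := (mem_borel_or H g').resolve_left hg'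
    refine ⟨su H a' b' * (su H a b)⁻¹, mul_mem ⟨a', b', rfl⟩ (inv_mem ⟨a, b, rfl⟩), ?_⟩
    convert mul_mem (inv_mem hβ) hβ' using 1
    group

/-- The linear group of order 504. -/
theorem flat_order504 [IsSimpleGroup K] (h : Nat.card K = 504) : Flat 3 1 K := by
  haveI : Fact (Nat.Prime 3) := ⟨Nat.prime_three⟩
  intro U
  have hne : normalizer ((U : Subgroup K) : Set K) ≠ ⊤ :=
    CfsgLib.Small.sylow_normalizer_ne_top (CfsgLib.Small.Order504.not_comm h) (by rw [h]; norm_num) U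
  refine ⟨fun _ => normalizer ((U : Subgroup K) : Set K), ⟨fun _ => le_normalizer,
    fun _ => hne, fun M hUM hM => ⟨0, fun g hg => ?_⟩, fun i => ?_⟩, iInf_le _ 0⟩
  · obtain ⟨R, hR, hRU, hinv⟩ := exists_core (SmallCases.full_order504 h) U hUM hM
    obtain ⟨x, hx, hx1⟩ := (bot_or_exists_ne_one R).resolve_left hR
    refine Sylow.smul_eq_iff_mem_normalizer.1
      (CfsgLib.Small.Order504.sylow_three_TI h (g • U) U x ?_ (hRU hx) hx1)
    have h1 := hRU (hinv g⁻¹ (inv_mem hg) x hx)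
    have := Subgroup.smul_mem_pointwise_smul _ (MulAut.conj g) _ h1
    rwa [MulAut.smul_def, MulAut.conj_apply, inv_inv, show g * (g⁻¹ * x * g) * g⁻¹ = x by group] at this
  · obtain ⟨g, -, hg⟩ := SetLike.exists_of_lt (lt_top_iff_ne_top.2 hne)
    exact ⟨g, hg, fun k hk => absurd (Subsingleton.elim k i) hk⟩

/-- Two invariant normalisers generating the group. -/
theorem excl_of_central (hF : Full p K) [IsSimpleGroup K] (U : Sylow p K) {z : K}
    (hz : z ∈ (U : Subgroup K)) (hz1 : z ≠ 1) (hzc : ∀ u ∈ (U : Subgroup K), u * z = z * u)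
    (hzp : z ^ p = 1) (hK : center K = ⊥)
    (huniq : ∀ y ∈ (U : Subgroup K), y ^ p = 1 → (∀ u ∈ (U : Subgroup K), u * y = y * u) →
      y ∈ zpowers z)
    {S : Set K} (hS : S ⊆ (U : Subgroup K)) (hzS : z ∈ S) (hUS : ∀ u ∈ (U : Subgroup K), ∀ x ∈ S, u * x * u⁻¹ ∈ S)
    (hTS : ∀ a : MulAut K, (∀ x ∈ (U : Subgroup K), a x ∈ (U : Subgroup K)) → a z ∈ zpowers z →
      ∀ x ∈ S, a x ∈ S)
    {g₁ g₂ : K} (h₁ : g₁ * z = z * g₁) (h₂ : ∀ x ∈ S, g₂ * x * g₂⁻¹ ∈ S)
    {w : K} (hw : w ∈ closure {g₁, g₂}) (hwz : w * z * w⁻¹ ∉ (U : Subgroup K)) : Excl p K := by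
  classical
  refine Excl.of_one U fun T hT hTU => ?_
  set Z := zpowers z
  have hTz : ∀ a ∈ T, a z ∈ Z := fun a ha => huniq _ (hTU a ha z hz) (by rw [← map_pow, hzp, map_one])
    fun u hu => by
      have h' := congrArg a (hzc _ (hTU _ (inv_mem ha) u hu))
      simpa using h'
  set H₁ := centralizer (Z : Set K)
  set N := Subgroup.closure S
  have hNU : N ≤ U := (Subgroup.closure_le _).2 hS
  have hNconj : ∀ g, (∀ x ∈ S, g * x * g⁻¹ ∈ S) → g ∈ normalizer (N : Set K) := fun g hg => by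
    refine mem_normalizer_fintype fun y hy => ?_
    replace hy : y ∈ Subgroup.closure S := hy
    induction hy using Subgroup.closure_induction with
    | mem x hx => exact Subgroup.subset_closure (hg x hx)
    | one => simp
    | mul a b _ _ ha hb =>
      have := mul_mem ha hb
      simpa [mul_assoc] using this
    | inv a _ ha =>
      have := inv_mem ha
      simpa [mul_assoc] using this
  have hUH₁ : (U : Subgroup K) ≤ H₁ := fun u hu y hy => by
    obtain ⟨i, rfl⟩ := hy
    exact (Commute.zpow_left (show Commute z u from (hzc u hu).symm) i).eq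
  have hU2 : (U : Subgroup K) ≠ ⊤ := fun e => hwz (e ▸ mem_top _)
  have hH₁ : H₁ ≠ ⊤ := fun e => hz1 (by
    rw [← mem_bot, ← hK, mem_center_iff]
    exact fun g => ((mem_centralizer_iff.1 (e ▸ mem_top g : g ∈ H₁)) z (mem_zpowers z)).symm)
  have hH₂ : normalizer (N : Set K) ≠ ⊤ := fun e => by
    haveI := normalizer_eq_top_iff.1 e
    rcases (inferInstance : N.Normal).eq_bot_or_eq_top with h | h
    · exact hz1 ((mem_bot).1 (h ▸ Subgroup.subset_closure hzS))
    · exact hU2 (top_le_iff.1 (h ▸ hNU))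
  refine ⟨H₁, normalizer (N : Set K), hUH₁, fun u hu => hNconj u (hUS u hu), hH₁, hH₂, ?_,
    fun a ha => ⟨fun x hx y hy => ?_, fun x hx => ?_⟩⟩
  · by_contra hne
    obtain ⟨R, hR, hRU, hinv⟩ := exists_core hF U (hUH₁.trans le_sup_left) hne
    haveI : Group.IsNilpotent (U : Subgroup K) := U.isPGroup'.isNilpotent
    haveI : (R.subgroupOf (U : Subgroup K)).Normal := ⟨fun x hx u => mem_subgroupOf.2
      (hinv u (mem_sup_left (hUH₁ u.2)) x (mem_subgroupOf.1 hx))⟩
    have hR' : R.subgroupOf (U : Subgroup K) ≠ ⊥ := fun e => hR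
      (by rw [← map_subgroupOf_eq_of_le hRU, e, Subgroup.map_bot])
    have hC := inf_center_ne_bot_of_isNilpotent hR'
    set C := R.subgroupOf (U : Subgroup K) ⊓ center (U : Subgroup K)
    obtain ⟨k, hk⟩ := (IsPGroup.iff_card (p := p)).1 (U.isPGroup'.to_subgroup C)
    have hk0 : k ≠ 0 := fun h0 => hC (eq_bot_of_card_eq _ (by rw [hk, h0, pow_zero]))
    obtain ⟨y, hy⟩ := exists_prime_orderOf_dvd_card' (G := C) p (hk ▸ dvd_pow_self p hk0)
    have hy' : orderOf (((y : (U : Subgroup K)) : K)) = p := by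
      rw [Subgroup.orderOf_coe, Subgroup.orderOf_coe, hy]
    have hyz : ((y : (U : Subgroup K)) : K) ∈ Z := huniq _ y.1.2
      (orderOf_dvd_iff_pow_eq_one.1 hy'.dvd)
      fun u hu => congrArg Subtype.val (mem_center_iff.1 y.2.2 ⟨u, hu⟩)
    have hZc : Nat.card Z = p := by rw [Nat.card_zpowers, orderOf_eq_prime hzp hz1]
    have hyeq : zpowers ((y : (U : Subgroup K)) : K) = Z :=
      eq_of_le_of_card_ge (zpowers_le.2 hyz) (by rw [hZc, Nat.card_zpowers, hy'])
    have hzR : z ∈ R := (zpowers_le.2 (mem_subgroupOf.1 y.2.1)) (hyeq ▸ mem_zpowers z)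
    refine hwz (hRU (hinv w ((Subgroup.closure_le _).2 ?_ hw) z hzR))
    rintro _ (rfl | rfl)
    · refine mem_sup_left fun y hy => ?_
      obtain ⟨i, rfl⟩ := hy
      exact (Commute.zpow_left (show Commute z _ from h₁.symm) i).eq
    · exact mem_sup_right (hNconj _ h₂)
  · obtain ⟨i, rfl⟩ := hy
    obtain ⟨j, hj⟩ := hTz a⁻¹ (inv_mem ha)
    have h' := congrArg a ((mem_centralizer_iff.1 hx) _ (zpow_mem (hTz a⁻¹ (inv_mem ha)) i))
    simpa using h'
  · have hmap : ∀ y : K, y ∈ N → a y ∈ N := by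
      intro y hy
      replace hy : y ∈ Subgroup.closure S := hy
      induction hy using Subgroup.closure_induction with
      | mem s hs => exact Subgroup.subset_closure (hTS a (hTU a ha) (hTz a ha) s hs)
      | one => simp
      | mul s t _ _ hs ht => rw [map_mul]; exact mul_mem hs ht
      | inv s _ hs => rw [map_inv]; exact inv_mem hs
    have hmap' : ∀ y : K, y ∈ N → (a⁻¹ : MulAut K) y ∈ N := by
      intro y hy
      replace hy : y ∈ Subgroup.closure S := hy
      induction hy using Subgroup.closure_induction with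
      | mem s hs => exact Subgroup.subset_closure (hTS a⁻¹ (hTU _ (inv_mem ha)) (hTz _ (inv_mem ha)) s hs)
      | one => simp
      | mul s t _ _ hs ht => rw [map_mul]; exact mul_mem hs ht
      | inv s _ hs => rw [map_inv]; exact inv_mem hs
    refine mem_normalizer_fintype fun y hy => ?_
    have h' := hmap _ ((mem_normalizer_iff.1 hx _).1 (hmap' y hy))
    simpa using h'

end CfsgLib.CharP.PMin
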